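import Cfsg.Agent.MacWilliams.Coord

/-!
MacWilliams: a 2-group without normal elementary abelian subgroups of order eight has no elementary abelian
section of order 32.
-/

set_option autoImplicit false
set_option linter.style.haveILetI false
set_option linter.unusedSectionVars false
set_option maxHeartbeats 400000

namespace Cfsg.Agent.MacWilliams

open Subgroup

variable {P : Type*} [Group P]

section Split

variable {M : Type*} [AddCommGroup M] (X : Subgroup P) (f : P → M)
  (hadd : ∀ x ∈ X, ∀ y ∈ X, f (x * y) = f x + f y)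

/-- the kernel of a map additive on `X` -/
def kerOn : Subgroup P where
  carrier := {x | x ∈ X ∧ f x = 0}
  one_mem' := by
    refine ⟨X.one_mem, ?_⟩
    have h := hadd 1 X.one_mem 1 X.one_mem
    rw [mul_one] at h
    exact left_eq_add.1 h
  mul_mem' := by
    rintro x y ⟨hx, hx0⟩ ⟨hy, hy0⟩
    exact ⟨mul_mem hx hy, by rw [hadd x hx y hy, hx0, hy0, add_zero]⟩
  inv_mem' := by
    rintro x ⟨hx, hx0⟩
    refine ⟨inv_mem hx, ?_⟩
    have h0 : f 1 = 0 := by
      have h := hadd 1 X.one_mem 1 X.one_mem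
      rw [mul_one] at h
      exact left_eq_add.1 h
    have h := hadd x hx x⁻¹ (inv_mem hx)
    rw [mul_inv_cancel, h0, hx0, zero_add] at h
    exact h.symm

/-- the image of a map additive on `X` -/
def imgHom : ↥X →* Multiplicative M :=
  MonoidHom.mk' (fun x => Multiplicative.ofAdd (f x)) fun x y => by
    show Multiplicative.ofAdd (f ((x : P) * y)) = Multiplicative.ofAdd (f x + f y)
    rw [hadd x x.2 y y.2]

include hadd in
theorem card_split : Nat.card X = (f '' (X : Set P)).ncard * Nat.card (kerOn X f hadd) := by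
  set r := imgHom X f hadd with hr
  have h1 := r.ker.card_mul_index
  rw [index_ker] at h1
  have hk : Nat.card r.ker = Nat.card (kerOn X f hadd) := Nat.card_congr
    { toFun := fun x => ⟨x.1.1, x.1.2, congrArg Multiplicative.toAdd (MonoidHom.mem_ker.1 x.2)⟩
      invFun := fun x => ⟨⟨x.1, x.2.1⟩, MonoidHom.mem_ker.2 (congrArg Multiplicative.ofAdd x.2.2)⟩
      left_inv := fun _ => rfl
      right_inv := fun _ => rfl }
  have hi : Nat.card r.range = (f '' (X : Set P)).ncard := by
    rw [← Nat.card_coe_set_eq]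
    exact Nat.card_congr
      { toFun := fun m => ⟨Multiplicative.toAdd m.1, by
          obtain ⟨x, hx⟩ := m.2
          exact ⟨x.1, x.2, congrArg Multiplicative.toAdd hx⟩⟩
        invFun := fun m => ⟨Multiplicative.ofAdd m.1, by
          obtain ⟨x, hx, e⟩ := m.2
          exact ⟨⟨x, hx⟩, congrArg Multiplicative.ofAdd e⟩⟩
        left_inv := fun _ => rfl
        right_inv := fun _ => rfl }
  rw [← h1, hk, hi, mul_comm]

end Split

/-- orders of 2-groups differ by factors of two -/
theorem thirtytwo [Finite P] (hP : IsPGroup 2 P) {K N : Subgroup P} (h : 16 * Nat.card N < Nat.card K) :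
    32 * Nat.card N ≤ Nat.card K := by
  haveI : Fact (Nat.Prime 2) := ⟨Nat.prime_two⟩
  obtain ⟨i, hi⟩ := (hP.to_subgroup N).exists_card_eq
  obtain ⟨j, hj⟩ := (hP.to_subgroup K).exists_card_eq
  rw [hi, hj] at h ⊢
  rw [show 16 * 2 ^ i = 2 ^ (i + 4) by ring] at h
  rw [show 32 * 2 ^ i = 2 ^ (i + 5) by ring]
  exact Nat.pow_le_pow_right (by norm_num) ((Nat.pow_lt_pow_iff_right one_lt_two).1 h)

/-- an element outside a centralizer of index two doubles the order -/
theorem card_le_double [Finite P] {K X : Subgroup P} (hX : ∀ g ∈ K, g ∉ X → ∀ g' ∈ K, g' ∉ X → g * g' ∈ X) :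
    Nat.card K ≤ 2 * Nat.card (K ⊓ X : Subgroup P) := by
  classical
  by_cases hKX : K ≤ X
  · rw [inf_eq_left.2 hKX]
    omega
  obtain ⟨t, htK, htX⟩ := SetLike.not_le_iff_exists.1 hKX
  let F : ↥K → Bool × ↥(K ⊓ X : Subgroup P) := fun g =>
    if hg : (g : P) ∈ X then (true, ⟨g, g.2, hg⟩) else (false, ⟨t * g, mul_mem htK g.2, hX t htK htX g g.2 hg⟩)
  have hF : Function.Injective F := by
    intro g g' e
    simp only [F] at e
    split_ifs at e <;> simp only [Prod.mk.injEq, Bool.true_eq_false, Bool.false_eq_true, false_and, true_and] at e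
    all_goals have e' := congrArg Subtype.val e
    · exact Subtype.ext e'
    · exact Subtype.ext (mul_left_cancel e')
  have := Nat.card_le_card_of_injective F hF
  simpa [Nat.card_prod] using this

variable {A : Subgroup P} {a b : P}

namespace Co

theorem sig_of_E1 [Finite P] (h : Co A a b) {x : P} (hx : x ∈ centralizer (E1 A : Set P)) (hd : x * x ∈ E1 A) :
    Sig A a b (phi a b x) := by
  obtain ⟨a', ha', hr⟩ := h.exists_root hd
  exact ⟨x, hx, rfl, a', h.su.A_le ha', hr.symm⟩

theorem mul_mem_P1 [Finite P] (h : Co A a b) {g g' : P} (hg : g ∉ centralizer (E1 A : Set P))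
    (hg' : g' ∉ centralizer (E1 A : Set P)) : g * g' ∈ centralizer (E1 A : Set P) := by
  refine mem_centralizer_iff.2 fun e he => ?_
  obtain ⟨v, rfl⟩ := h.iota_surj he
  have e1 : g * g' * iota a b v * (g * g')⁻¹ = iota a b v := by
    rw [show g * g' * iota a b v * (g * g')⁻¹ = g * (g' * iota a b v * g'⁻¹) * g⁻¹ by group, h.swap hg', h.swap hg]
    have htv : ∀ u : V, tv (tv u) = u := by decide +kernel
    rw [htv]
  exact (mul_inv_eq_iff_eq_mul.1 e1).symm

theorem finish [Finite P] (h : Co A a b)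
    (hC : ∀ c ∈ centralizer (A : Set P), ∀ d ∈ centralizer (A : Set P), c * d = d * c)
    {M : Mt} (hM : Sig A a b M) (hg : good M) (h0 : M ≠ 0)
    (hfix : ∀ g : P, g ∉ centralizer (E1 A : Set P) → conjM M = M) : False := by
  obtain ⟨x, hx, rfl, hx2⟩ := h.involution hC hM hg
  haveI := E1_normal h.su.normal h.su.comm
  have hn : (centralizer (E1 A : Set P)).Normal := inferInstance
  have hall : ∀ g : P, g * x * g⁻¹ * x⁻¹ ∈ E1 A := by
    intro g
    have hgx := hn.conj_mem x hx g
    have e : phi a b (g * x * g⁻¹) = phi a b x := by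
      by_cases hgP : g ∈ centralizer (E1 A : Set P)
      · exact h.phi_conj_in hgP hx
      · rw [h.phi_conj_out hgP hx, hfix g hgP]
    have hxi : x⁻¹ = x := inv_eq_of_mul_eq_one_right hx2
    have hc : x * (g * x * g⁻¹) ∈ centralizer (A : Set P) :=
      h.C_of_phi (mul_mem hx hgx) (by rw [h.phi_mul hx hgx, e, add_self_Mt])
    have hcE := h.inverted hx hg hc (by
      calc x * (x * (g * x * g⁻¹)) * x⁻¹ = x * x * (g * x * g⁻¹) * x⁻¹ := by group
        _ = g * x⁻¹ * g⁻¹ * x⁻¹ := by rw [hx2, one_mul, hxi]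
        _ = (x * (g * x * g⁻¹))⁻¹ := by group)
    have h2 := (E1_normal h.su.normal h.su.comm).conj_mem _ hcE x
    rwa [show x * (x * (g * x * g⁻¹)) * x⁻¹ = x * x * (g * x * g⁻¹) * x⁻¹ by group, hx2, one_mul] at h2
  rcases h.su.noEight x hx2 (fun e he => (mem_centralizer_iff.1 hx e he).symm) hall with h1 | h1
  · exact h0 (h.phi_of_C (h.su.A_le h1.1))
  · rw [h.card] at h1
    omega

/-- the case of many squares in `N` -/
theorem case_two [Finite P] (h : Co A a b) {f : Mt} (hS : ∀ M, dot f M = 0 → Sig A a b M) : False := by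
  obtain ⟨M, hM0, hMg, hMne⟩ := good_in_ker f
  have hC := h.comm_of_sig (hS M hM0) hMg hMne
  by_cases hex : ∃ g : P, g ∉ centralizer (E1 A : Set P)
  · obtain ⟨g, hg⟩ := hex
    have hc : ∀ M, Sig A a b M → Sig A a b (conjM M) := fun M hM => h.sig_conj hg hM
    have ha : ∀ M N, good M → Sig A a b M → Sig A a b N → Sig A a b (M + N) := fun M N hg hM hN =>
      h.sig_add hC hg hM hN
    have h1 := step_sound hc ha (step_sound hc ha (step_sound hc ha
      (s := Finset.univ.filter fun M => dot f M = 0) fun M hM => hS M (Finset.mem_filter.1 hM).2))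
      _ (e12_in_closure f)
    exact h.finish hC h1 e12_props.1 e12_props.2.1 fun _ _ => e12_props.2.2
  · exact h.finish hC (hS M hM0) hMg hMne fun g hg => (hex ⟨g, hg⟩).elim

/-- the case of all matrices -/
theorem case_full [Finite P] (h : Co A a b) {K N : Subgroup P} (hsq : ∀ k ∈ K, k * k ∈ N)
    (hall : ∀ M, ∃ k ∈ K ⊓ centralizer (E1 A : Set P), phi a b k = M)
    (hlt : Nat.card (N ⊓ centralizer (A : Set P) : Subgroup P) <
      Nat.card (K ⊓ centralizer (A : Set P) : Subgroup P)) : False := by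
  have hW : ∀ k ∈ K ⊓ centralizer (E1 A : Set P), k * k ∈ N ⊓ centralizer (A : Set P) := fun k hk =>
    ⟨hsq k hk.1, h.sq_mem_C hk.2⟩
  have hfixpt : ∀ x ∈ centralizer (E1 A : Set P), ∀ c ∈ A, x * c = c * x →
      app (phi a b x) (co a b (c * c)) = 0 := fun x hx c hc e => by
    rw [← h.co_dl hx hc, dl_eq_one.2 e, h.co_one]
  -- the centralizer is `A`
  obtain ⟨x, hx, hxM⟩ := hall ((0, 1), (1, 1))
  obtain ⟨hog, hone, hoinj⟩ := omega_props _ (show ((0, 1), (1, 1)) ∈ omegas by simp [omegas])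
  have hinjE : ∀ y ∈ centralizer (E1 A : Set P), (∀ v, app (phi a b y) v = 0 → v = 0) → y * y ∈ E1 A := by
    intro y hy hinj
    refine h.su.mem_E1_of_sq (h.sq_mem_C hy) ?_
    by_contra h2
    obtain ⟨m, h4, hm2⟩ := exists_four h.su.two h2
    have hmA := h.su.mem_of_four (pow_mem (h.sq_mem_C hy) m) h4
    refine hm2 (h.co_eq_zero (h.su.sq_mem hmA) (hinj _ (hfixpt y hy _ hmA ?_)))
    exact (Commute.pow_right ((Commute.refl y).mul_right (Commute.refl y)) m).eq
  have hxE : x * x ∈ E1 A := hinjE x hx.2 (hxM ▸ hoinj)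
  have hCA : ∀ c ∈ centralizer (A : Set P), c ∈ A := by
    intro c hc
    refine h.su.mem_of_four hc ?_
    by_contra h4
    rw [four_eq] at h4
    obtain ⟨m, h4m, h2m⟩ := exists_four h.su.two h4
    have hu : (c ^ m) ^ 8 = 1 := by
      rw [← h4m, ← pow_two, ← pow_mul c 2 m, ← pow_mul, ← pow_mul]
      congr 1
      ring
    have e4 : (c ^ m) ^ 4 = (c * c) ^ m * (c * c) ^ m := by
      rw [← pow_two c, ← pow_mul c 2 m, ← pow_two, ← pow_mul, ← pow_mul]
      congr 1
      ring
    have hr := h.relation hx.2 (pow_mem hc m) hu (h.su.CA (pow_mem hc m) hxE.1).symm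
    have hmE : (c ^ m) ^ 4 ∈ E1 A :=
      h.su.mem_E1_of_sq (pow_mem (pow_mem hc m) 4) (by rw [← pow_add]; exact hu)
    rw [hxM] at hr
    have hv := hoinj _ (hog _ hr)
    exact h2m (e4.symm.trans (h.co_eq_zero hmE hv))
  have hC : ∀ c ∈ centralizer (A : Set P), ∀ d ∈ centralizer (A : Set P), c * d = d * c := fun c hc d hd =>
    h.su.comm c (hCA c hc) d (hCA d hd)
  have hom : ∀ M ∈ omegas, Sig A a b M := by
    intro M hM
    obtain ⟨y, hy, rfl⟩ := hall M
    exact h.sig_of_E1 hy.2 (hinjE y hy.2 (omega_props _ hM).2.2)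
  -- squares of the lifts of nilpotent matrices
  have hnil : ∀ M ∈ nils, ∀ M' ∈ nils, M ≠ M' → Sig A a b M ∨ Sig A a b M' := by
    intro M hM M' hM' hne
    obtain ⟨k, hk, rfl⟩ := hall M
    obtain ⟨k', hk', rfl⟩ := hall M'
    by_contra hno
    push Not at hno
    have key : ∀ y ∈ K ⊓ centralizer (E1 A : Set P), ¬ Sig A a b (phi a b y) →
        ∃ d ∈ N ⊓ centralizer (A : Set P), d ∈ A ∧ co a b (d * d) ≠ 0 ∧ app (phi a b y) (co a b (d * d)) = 0 := by
      intro y hy hn
      have hdA := hCA _ (h.sq_mem_C hy.2)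
      refine ⟨y * y, hW y hy, hdA, fun e0 => hn (h.sig_of_E1 hy.2 ?_), hfixpt y hy.2 _ hdA (by group)⟩
      exact h.su.memE1.2 ⟨hdA, h.co_eq_zero (h.su.sq_mem hdA) e0⟩
    obtain ⟨d, hdW, hdA, hv, hv0⟩ := key k hk hno.1
    obtain ⟨d', hdW', hdA', hv', hv0'⟩ := key k' hk' hno.2
    have hvne : co a b (d * d) ≠ co a b (d' * d') := fun e =>
      hv (nils_ker _ hM _ hM' hne _ hv0 (by rw [e]; exact hv0'))
    have hE : ∀ e ∈ E1 A, e ∈ N ⊓ centralizer (A : Set P) := by
      intro e he
      rcases two_span _ _ hv hv' hvne (co a b e) with e1 | e1 | e1 | e1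
      · rw [h.co_eq_zero he e1]; exact one_mem _
      · rw [← h.iota_co he, e1, h.iota_co (h.su.sq_mem hdA)]; exact mul_mem hdW hdW
      · rw [← h.iota_co he, e1, h.iota_co (h.su.sq_mem hdA')]; exact mul_mem hdW' hdW'
      · rw [← h.iota_co he, e1, h.iota_add, h.iota_co (h.su.sq_mem hdA), h.iota_co (h.su.sq_mem hdA')]
        exact mul_mem (mul_mem hdW hdW) (mul_mem hdW' hdW')
    have hAW : ∀ a' ∈ A, a' ∈ N ⊓ centralizer (A : Set P) := by
      intro a' ha'
      have hd : ∀ u ∈ A, co a b (a' * a') = co a b (u * u) → u ∈ N ⊓ centralizer (A : Set P) →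
          a' ∈ N ⊓ centralizer (A : Set P) := by
        intro u hu e huW
        have h1 : a' * a' = u * u := by rw [← h.iota_co (h.su.sq_mem ha'), e, h.iota_co (h.su.sq_mem hu)]
        have h2 := mul_mem (hE _ (h.su.fibre (h.su.A_le ha') (h.su.A_le hu) h1)) huW
        rwa [inv_mul_cancel_right] at h2
      rcases two_span _ _ hv hv' hvne (co a b (a' * a')) with e1 | e1 | e1 | e1
      · exact hE a' (h.su.memE1.2 ⟨ha', h.co_eq_zero (h.su.sq_mem ha') e1⟩)
      · exact hd d hdA e1 hdW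
      · exact hd d' hdA' e1 hdW'
      · refine hd (d * d') (mul_mem hdA hdA') ?_ (mul_mem hdW hdW')
        rw [e1, (show Commute d' d from h.su.comm d' hdA' d hdA).mul_mul_mul_comm,
          h.co_mul (h.su.sq_mem hdA) (h.su.sq_mem hdA')]
    exact absurd (card_le_of_le (fun u hu => hAW u (hCA u hu.2) :
      K ⊓ centralizer (A : Set P) ≤ N ⊓ centralizer (A : Set P))) (by omega)
  have hn : nils = [((0, 0), (1, 0)), ((0, 1), (0, 0)), ((1, 1), (1, 1))] := rfl
  obtain ⟨M, hM, M', hM', hne, hS, hS'⟩ : ∃ M ∈ nils, ∃ M' ∈ nils, M ≠ M' ∧ Sig A a b M ∧ Sig A a b M' := by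
    have m1 : (((0, 0), (1, 0)) : Mt) ∈ nils := by simp [hn]
    have m2 : (((0, 1), (0, 0)) : Mt) ∈ nils := by simp [hn]
    have m3 : (((1, 1), (1, 1)) : Mt) ∈ nils := by simp [hn]
    rcases hnil _ m1 _ m2 (by decide) with h1 | h2
    · rcases hnil _ m2 _ m3 (by decide) with h2 | h3
      · exact ⟨_, m1, _, m2, by decide, h1, h2⟩
      · exact ⟨_, m1, _, m3, by decide, h1, h3⟩
    · rcases hnil _ m1 _ m3 (by decide) with h1 | h3
      · exact ⟨_, m1, _, m2, by decide, h1, h2⟩
      · exact ⟨_, m2, _, m3, by decide, h2, h3⟩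
  by_cases hex : ∃ g : P, g ∉ centralizer (E1 A : Set P)
  · obtain ⟨g, hg⟩ := hex
    have hc : ∀ M, Sig A a b M → Sig A a b (conjM M) := fun M hM => h.sig_conj hg hM
    have ha : ∀ M N, good M → Sig A a b M → Sig A a b N → Sig A a b (M + N) := fun M N hg hM hN =>
      h.sig_add hC hg hM hN
    have h1 := step_sound hc ha (step_sound hc ha (step_sound hc ha (step_sound hc ha
      (s := {M, M'} ∪ omegas.toFinset) fun u hu => by
        simp only [Finset.mem_union, Finset.mem_insert, Finset.mem_singleton, List.mem_toFinset] at hu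
        rcases hu with (rfl | rfl) | hu
        exacts [hS, hS', hom u hu])))
      _ (e12_in_closure_pairs M hM M' hM' hne)
    exact h.finish hC h1 e12_props.1 e12_props.2.1 fun _ _ => e12_props.2.2
  · exact h.finish hC hS (nils_props _ hM).1 (nils_props _ hM).2 fun g hg => (hex ⟨g, hg⟩).elim

set_option maxHeartbeats 1600000 in
/-- sections of order 32 do not exist in the homocyclic case -/
theorem good_main [Finite P] (h : Co A a b) : SecRankFour.Good (⊤ : Subgroup P) := by
  intro K N _ hNK hn hsq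
  by_contra hcon
  push Not at hcon
  have h32 := thirtytwo h.su.two hcon
  set C := centralizer (A : Set P) with hCdef
  set P1 := centralizer (E1 A : Set P) with hP1
  have hadd : ∀ X : Subgroup P, X ≤ P1 → ∀ x ∈ X, ∀ y ∈ X, phi a b (x * y) = phi a b x + phi a b y :=
    fun X hX x hx y hy => h.phi_mul (hX hx) (hX hy)
  have hsplit : ∀ X : Subgroup P, Nat.card (X ⊓ P1 : Subgroup P) =
      (phi a b '' ((X ⊓ P1 : Subgroup P) : Set P)).ncard * Nat.card (X ⊓ C : Subgroup P) := by
    intro X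
    rw [card_split (X ⊓ P1) (phi a b) (hadd _ inf_le_right)]
    congr 1
    refine Nat.card_congr (Equiv.setCongr ?_)
    ext x
    exact ⟨fun hx => ⟨hx.1.1, h.C_of_phi hx.1.2 hx.2⟩, fun hx => ⟨⟨hx.1, h.C_le_P1 hx.2⟩, h.phi_of_C hx.2⟩⟩
  have hK1 := hsplit K
  have hN1 := hsplit N
  set L := phi a b '' ((K ⊓ P1 : Subgroup P) : Set P) with hL
  set LN := phi a b '' ((N ⊓ P1 : Subgroup P) : Set P) with hLN
  have hLNpos : 1 ≤ LN.ncard := (Set.ncard_pos (Set.toFinite _)).2 ⟨_, 1, (N ⊓ P1).one_mem, rfl⟩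
  have hD : Nat.card (K ⊓ C : Subgroup P) ≤ 4 * Nat.card (N ⊓ C : Subgroup P) :=
    h.su.card_le inf_le_right fun x hx => ⟨hsq x hx.1, mul_mem hx.2 hx.2⟩
  have hNle : Nat.card (N ⊓ P1 : Subgroup P) ≤ Nat.card N := card_le_of_le inf_le_left
  have hsig : 4 * Nat.card (N ⊓ C : Subgroup P) ≤ Nat.card (K ⊓ C : Subgroup P) → ∀ M ∈ L, Sig A a b M := by
    rintro h4 _ ⟨k, hk, rfl⟩
    obtain ⟨e, he, hee⟩ := h.su.exists_sqrt (X := K ⊓ C) (N := N ⊓ C) inf_le_right
      (fun x hx => ⟨hsq x hx.1, mul_mem hx.2 hx.2⟩) h4 ⟨hsq k hk.1, h.sq_mem_C hk.2⟩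
    exact ⟨k, hk.2, rfl, e, he.2, hee.symm⟩
  have hWpos : 0 < Nat.card (N ⊓ C : Subgroup P) := Nat.card_pos
  by_cases hKP : K ≤ P1
  · rw [inf_eq_left.2 hKP] at hK1
    have hdvd : L.ncard ∣ 16 := by
      have hr : L.ncard = Nat.card (imgHom (K ⊓ P1) (phi a b) (hadd _ inf_le_right)).range := by
        rw [← Nat.card_coe_set_eq]
        exact Nat.card_congr
          { toFun := fun m => ⟨Multiplicative.ofAdd m.1, by
              obtain ⟨x, hx, e⟩ := m.2
              exact ⟨⟨x, hx⟩, congrArg Multiplicative.ofAdd e⟩⟩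
            invFun := fun m => ⟨Multiplicative.toAdd m.1, by
              obtain ⟨x, hx⟩ := m.2
              exact ⟨x.1, x.2, congrArg Multiplicative.toAdd hx⟩⟩
            left_inv := fun _ => rfl
            right_inv := fun _ => rfl }
      rw [hr]
      refine (card_subgroup_dvd_card _).trans ?_
      rw [Nat.card_eq_fintype_card]
      exact dvd_of_eq rfl
    have key : 32 * Nat.card (N ⊓ C : Subgroup P) ≤ L.ncard * Nat.card (K ⊓ C : Subgroup P) := by
      rw [← hK1]
      refine le_trans ?_ h32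
      refine Nat.mul_le_mul_left 32 (le_trans ?_ hNle)
      rw [hN1]
      exact Nat.le_mul_of_pos_left _ hLNpos
    by_cases h16 : L.ncard = 16
    · refine h.case_full (K := K) (N := N) hsq (fun M => ?_) ?_
      · have : L = Set.univ := Set.eq_of_subset_of_ncard_le (Set.subset_univ _) (by
          rw [Set.ncard_univ, Nat.card_eq_fintype_card, h16]; exact le_of_eq rfl) (Set.toFinite _)
        exact (this ▸ Set.mem_univ M : M ∈ L)
      · rw [h16] at key
        show Nat.card (N ⊓ C : Subgroup P) < Nat.card (K ⊓ C : Subgroup P)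
        omega
    have hL8 : L.ncard ≤ 8 := by
      have := Nat.le_of_dvd (by norm_num) hdvd
      have h0 : L.ncard ≠ 0 := fun e => by rw [e] at hdvd; simp at hdvd
      interval_cases hc : L.ncard <;> simp_all
    have h1 : L.ncard * Nat.card (K ⊓ C : Subgroup P) ≤ 8 * Nat.card (K ⊓ C : Subgroup P) :=
      Nat.mul_le_mul_right _ hL8
    have h2 : L.ncard * Nat.card (K ⊓ C : Subgroup P) ≤ L.ncard * (4 * Nat.card (N ⊓ C : Subgroup P)) :=
      Nat.mul_le_mul_left _ hD
    have h8 : L.ncard = 8 := by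
      by_contra hne
      have : L.ncard * (4 * Nat.card (N ⊓ C : Subgroup P)) ≤ 7 * (4 * Nat.card (N ⊓ C : Subgroup P)) :=
        Nat.mul_le_mul_right _ (by omega)
      omega
    have hadd' : ∀ x ∈ L, ∀ y ∈ L, x + y ∈ L := by
      rintro _ ⟨x, hx, rfl⟩ _ ⟨y, hy, rfl⟩
      exact ⟨x * y, mul_mem hx hy, h.phi_mul hx.2 hy.2⟩
    obtain ⟨f, hf⟩ := exists_dot (p := (· ∈ L)) (fun x y hx hy => hadd' x hx y hy) fun x y hx hy => by
      have hdis : Disjoint L ((fun z => x + z) '' L) := Set.disjoint_left.2 fun z hz hz' => by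
        obtain ⟨w, hw, rfl⟩ := hz'
        exact hx (by have := hadd' _ hz _ hw; rwa [add_assoc, add_self_Mt, add_zero] at this)
      have huniv : L ∪ (fun z => x + z) '' L = Set.univ :=
        Set.eq_of_subset_of_ncard_le (Set.subset_univ _) (by
          rw [Set.ncard_univ, Nat.card_eq_fintype_card, Set.ncard_union_eq hdis,
            Set.ncard_image_of_injective _ (add_right_injective x), h8]
          exact le_of_eq rfl) (Set.toFinite _)
      rcases (huniv ▸ Set.mem_univ y : y ∈ L ∪ (fun z => x + z) '' L) with h' | ⟨w, hw, rfl⟩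
      · exact absurd h' hy
      · rwa [← add_assoc, add_self_Mt, zero_add]
    exact h.case_two fun M hM => hsig (by rw [h8] at key; omega) M (hf M hM)
  · obtain ⟨t, htK, htP⟩ := SetLike.not_le_iff_exists.1 hKP
    haveI := E1_normal h.su.normal h.su.comm
    have hnP : P1.Normal := inferInstance
    let tau : P → Mt := fun x => conjM (phi a b x) + phi a b x
    have htau : ∀ x ∈ K ⊓ P1, ∀ y ∈ K ⊓ P1, tau (x * y) = tau x + tau y := fun x hx y hy => by
      show conjM (phi a b (x * y)) + phi a b (x * y) = _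
      rw [h.phi_mul hx.2 hy.2, conjM_add]
      exact add_add_add_comm _ _ _ _
    have himg : tau '' ((K ⊓ P1 : Subgroup P) : Set P) ⊆ LN := by
      rintro _ ⟨k, hk, rfl⟩
      refine ⟨t * k * t⁻¹ * k⁻¹, mem_inf.2 ⟨SecRankFour.comm_mem hNK hn hsq htK hk.1,
        mul_mem (hnP.conj_mem k hk.2 t) ((P1).inv_mem hk.2)⟩, ?_⟩
      rw [h.phi_mul (hnP.conj_mem k hk.2 t) (inv_mem hk.2), h.phi_conj_out htP hk.2, h.phi_inv hk.2]
    have s1 := card_split (K ⊓ P1) tau htau
    set Z := kerOn (K ⊓ P1) tau htau with hZdef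
    have s2 := card_split Z (phi a b) (fun x hx y hy => h.phi_mul hx.1.2 hy.1.2)
    have hZC : Nat.card (kerOn Z (phi a b) (fun x hx y hy => h.phi_mul hx.1.2 hy.1.2)) ≤
        Nat.card (K ⊓ C : Subgroup P) := card_le_of_le fun x hx => ⟨hx.1.1.1, h.C_of_phi hx.1.1.2 hx.2⟩
    have hdouble : Nat.card K ≤ 2 * Nat.card (K ⊓ P1 : Subgroup P) :=
      card_le_double fun g _ hg g' _ hg' => h.mul_mem_P1 hg hg'
    have hT : (tau '' ((K ⊓ P1 : Subgroup P) : Set P)).ncard ≤ LN.ncard :=
      Set.ncard_le_ncard himg (Set.toFinite _)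
    have hmain : ∀ B, (phi a b '' (Z : Set P)).ncard ≤ B →
        32 * (LN.ncard * Nat.card (N ⊓ C : Subgroup P)) ≤ LN.ncard * (2 * B * Nat.card (K ⊓ C : Subgroup P)) := by
      intro B hB
      rw [← hN1]
      refine le_trans (Nat.mul_le_mul_left 32 hNle) (h32.trans (hdouble.trans ?_))
      rw [s1, s2]
      calc 2 * ((tau '' ((K ⊓ P1 : Subgroup P) : Set P)).ncard * ((phi a b '' (Z : Set P)).ncard *
            Nat.card (kerOn Z (phi a b) _)))
          ≤ 2 * (LN.ncard * (B * Nat.card (K ⊓ C : Subgroup P))) :=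
            Nat.mul_le_mul_left 2 (Nat.mul_le_mul hT (Nat.mul_le_mul hB hZC))
        _ = _ := by ring
    have hfour : (phi a b '' (Z : Set P)) ⊆ {0, ((1, 0), (0, 1)), e12, ((1, 0), (1, 1))} := by
      rintro _ ⟨x, hx, rfl⟩
      have := conjM_fix _ hx.2
      simpa using this
    have hc4 : ∀ s : Finset Mt, (phi a b '' (Z : Set P)) ⊆ ↑s → (phi a b '' (Z : Set P)).ncard ≤ s.card :=
      fun s hs => (Set.ncard_le_ncard hs (Finset.finite_toSet s)).trans (le_of_eq (Set.ncard_coe_finset s))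
    have h4 : (phi a b '' (Z : Set P)).ncard ≤ 4 := (hc4 {0, ((1, 0), (0, 1)), e12, ((1, 0), (1, 1))}
      (by simpa using hfour)).trans (by decide)
    have hDW : 4 * Nat.card (N ⊓ C : Subgroup P) ≤ Nat.card (K ⊓ C : Subgroup P) := by
      have := Nat.le_of_mul_le_mul_left ((hmain 4 h4).trans' (le_of_eq (by ring :
        LN.ncard * (32 * Nat.card (N ⊓ C : Subgroup P)) = _))) hLNpos
      omega
    have he : e12 ∈ phi a b '' (Z : Set P) := by
      by_contra he
      have h3 : (phi a b '' (Z : Set P)).ncard ≤ 3 := (hc4 {0, ((1, 0), (0, 1)), ((1, 0), (1, 1))} (by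
        intro M hM
        have h1 := hfour hM
        simp only [Set.mem_insert_iff, Set.mem_singleton_iff] at h1
        rcases h1 with rfl | rfl | rfl | rfl
        · simp
        · simp
        · exact absurd hM he
        · simp)).trans (by decide)
      have := Nat.le_of_mul_le_mul_left ((hmain 3 h3).trans' (le_of_eq (by ring :
        LN.ncard * (32 * Nat.card (N ⊓ C : Subgroup P)) = _))) hLNpos
      omega
    obtain ⟨k, hk, hke⟩ := he
    have hS : Sig A a b e12 := hke ▸ hsig hDW _ ⟨k, hk.1, rfl⟩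
    exact h.finish (h.comm_of_sig hS e12_props.1 e12_props.2.1) hS e12_props.1 e12_props.2.1
      fun _ _ => e12_props.2.2

end Co

/-- a central involution among the involutions of `A` -/
theorem Su.exists_central [Finite P] (h : Su A) (h2 : 2 ≤ Nat.card (E1 A)) :
    ∃ z ∈ E1 A, z ≠ 1 ∧ ∀ g : P, g * z = z * g := by
  haveI := E1_normal h.normal h.comm
  haveI : Fact (Nat.Prime 2) := ⟨Nat.prime_two⟩
  obtain ⟨Z, hZE, hZc, -, hZ⟩ := Fusion.exists_central_card_prime h.two (E1 A) (fun e => by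
    rw [e, card_bot] at h2; omega)
  obtain ⟨z, hz, hz1⟩ := Z.bot_or_exists_ne_one.resolve_left (fun e => by rw [e, card_bot] at hZ; omega)
  exact ⟨z, hZE hz, hz1, fun g => mem_center_iff.1 (hZc hz) g⟩

/-- the involutions of `A` are four when they are more than two -/
theorem Su.card_four [Finite P] (h : Su A) (h2 : 2 < Nat.card (E1 A)) : Nat.card (E1 A) = 4 := by
  haveI : Fact (Nat.Prime 2) := ⟨Nat.prime_two⟩
  obtain ⟨k, hk⟩ := (h.two.to_subgroup (E1 A)).exists_card_eq
  have hsm := h.small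
  rw [hk] at h2 hsm ⊢
  rcases k with _ | _ | _ | k
  · omega
  · omega
  · rfl
  · have : 2 ^ 3 ≤ 2 ^ (k + 3) := Nat.pow_le_pow_right (by norm_num) (by omega)
    omega

/-- two elements outside the centralizer of the involutions have their product inside -/
theorem Su.mul_mem_P1 [Finite P] (h : Su A) {g g' : P} (hg : g ∉ centralizer (E1 A : Set P))
    (hg' : g' ∉ centralizer (E1 A : Set P)) : g * g' ∈ centralizer (E1 A : Set P) := by
  classical
  have hn := E1_normal h.normal h.comm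
  rcases le_or_gt (Nat.card (E1 A)) 2 with h2 | h2
  · refine absurd (mem_centralizer_iff.2 fun e he => ?_) hg
    by_contra hne
    have h3 : g * e * g⁻¹ ≠ e := fun q => hne (mul_inv_eq_iff_eq_mul.1 q).symm
    have he1 : e ≠ 1 := fun q => hne (by rw [q, one_mul, mul_one])
    have := (Set.two_lt_ncard_iff (Set.toFinite (E1 A : Set P))).2
      ⟨1, e, g * e * g⁻¹, (E1 A).one_mem, he, hn.conj_mem e he g, Ne.symm he1,
        fun q => he1 (by rw [← mul_left_cancel_iff (a := g), ← mul_right_cancel_iff (a := g⁻¹), ← q]; group),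
        Ne.symm h3⟩
    rw [← Nat.card_coe_set_eq] at this
    exact absurd (lt_of_lt_of_le this h2) (lt_irrefl 2)
  obtain ⟨z, hz, hz1, hzc⟩ := h.exists_central h2.le
  have key : ∀ g : P, g ∉ centralizer (E1 A : Set P) → ∀ e ∈ E1 A, e ≠ 1 → e ≠ z → g * e * g⁻¹ = e * z := by
    intro g hg e he he1 hez
    have hez1 : e * z ≠ 1 := fun q =>
      hez ((mul_eq_one_iff_eq_inv.1 q).trans (inv_eq_of_mul_eq_one_right hz.2.1))
    have hall : ({1, z, e, e * z} : Set P) = (E1 A : Set P) := by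
      refine Set.eq_of_subset_of_ncard_le ?_ ?_ (Set.toFinite _)
      · rintro x (rfl | rfl | rfl | rfl)
        exacts [(E1 A).one_mem, hz, he, mul_mem he hz]
      · rw [← Nat.card_coe_set_eq, show Nat.card ↥(E1 A : Set P) = Nat.card (E1 A) from rfl, h.card_four h2,
          Set.ncard_insert_of_notMem (by simp [Ne.symm hz1, Ne.symm he1, Ne.symm hez1]) (Set.toFinite _),
          Set.ncard_insert_of_notMem (by simp [Ne.symm hez, he1]) (Set.toFinite _),
          Set.ncard_pair (by simp [hz1])]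
    have hmem : ∀ x ∈ E1 A, x = 1 ∨ x = z ∨ x = e ∨ x = e * z := fun x hx => by
      simpa using hall.ge hx
    rcases hmem _ (hn.conj_mem e he g) with q | q | q | q
    · exact absurd (by rw [show e = g⁻¹ * (g * e * g⁻¹) * g by group, q]; group) he1
    · refine absurd ?_ hez
      rw [show e = g⁻¹ * (g * e * g⁻¹) * g by group, q, mul_assoc, ← hzc g, inv_mul_cancel_left]
    · refine absurd (mem_centralizer_iff.2 fun x hx => ?_) hg
      have ce : Commute g e := mul_inv_eq_iff_eq_mul.1 q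
      have cz : Commute g z := hzc g
      rcases hmem x hx with rfl | rfl | rfl | rfl
      exacts [(Commute.one_right g).eq.symm, cz.eq.symm, ce.eq.symm, (ce.mul_right cz).eq.symm]
    · exact q
  refine mem_centralizer_iff.2 fun e he => ?_
  suffices e1 : g * g' * e * (g * g')⁻¹ = e from (mul_inv_eq_iff_eq_mul.1 e1).symm
  rw [show g * g' * e * (g * g')⁻¹ = g * (g' * e * g'⁻¹) * g⁻¹ by group]
  have hfixz : ∀ x : P, x * z * x⁻¹ = z := fun x => by rw [hzc x, mul_inv_cancel_right]
  by_cases he1 : e = 1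
  · subst he1; group
  by_cases hez : e = z
  · subst hez; rw [hfixz, hfixz]
  rw [key g' hg' e he he1 hez, show g * (e * z) * g⁻¹ = g * e * g⁻¹ * (g * z * g⁻¹) by group, key g hg e he he1 hez,
    hfixz, mul_assoc, hz.2.1, mul_one]

/-- the cases where `A` is smaller -/
theorem good_small [Finite P] (h : Su A) {a : P} (ha : a ∈ A)
    (hR : ∀ c ∈ A, c * c = 1 ∨ c * c = a * a) : SecRankFour.Good (⊤ : Subgroup P) := by
  classical
  intro K N _ hNK hn hsq
  set C := centralizer (A : Set P) with hCdef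
  set P1 := centralizer (E1 A : Set P) with hP1
  haveI := E1_normal h.normal h.comm
  have hnP : P1.Normal := inferInstance
  have hfix : ∀ x ∈ P1, ∀ e ∈ E1 A, x * e * x⁻¹ = e := fun x hx e he => by
    rw [← mem_centralizer_iff.1 hx e he, mul_inv_cancel_right]
  have hCP : C ≤ P1 := centralizer_le fun _ he => he.1
  have hdl : ∀ x ∈ P1, dl x a ∈ E1 A := fun x hx => by
    refine h.fibre (h.A_le (h.normal.conj_mem a ha x)) (h.A_le ha) ?_
    rw [show x * a * x⁻¹ * (x * a * x⁻¹) = x * (a * a) * x⁻¹ by group, hfix x hx _ (h.sq_mem ha)]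
  let f : P → Additive ↥(E1 A) := fun x =>
    if hx : dl x a ∈ E1 A then Additive.ofMul ⟨dl x a, hx⟩ else 0
  letI : CommGroup ↥(E1 A) :=
    { (E1 A).toGroup with mul_comm := fun u v => Subtype.ext (u.2.2.2 v v.2.1) }
  have hf : ∀ x ∈ P1, ((Additive.toMul (f x) : ↥(E1 A)) : P) = dl x a := fun x hx => by
    simp [f, hdl x hx]
  have hfadd : ∀ x ∈ P1, ∀ y ∈ P1, f (x * y) = f x + f y := fun x hx y hy => by
    apply Additive.toMul.injective
    apply Subtype.ext
    rw [toMul_add, Subgroup.coe_mul, hf _ (mul_mem hx hy), hf x hx, hf y hy, dl_mul_left,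
      hfix x hx _ (hdl y hy)]
    exact (hdl y hy).2.2 _ (hdl x hx).1
  have hker : ∀ x ∈ P1, f x = 0 → x ∈ C := by
    intro x hx h0
    have h1 : dl x a = 1 := by
      rw [← hf x hx, h0]; rfl
    have hxa : x * a = a * x := dl_eq_one.1 h1
    refine Su.memC.2 fun c hc => ?_
    rcases hR c hc with e | e
    · exact (mem_centralizer_iff.1 hx c (h.memE1.2 ⟨hc, e⟩)).symm
    · have hd := h.fibre (h.A_le hc) (h.A_le ha) e
      have c1 : Commute x (c * a⁻¹ * a) :=
        (Commute.symm (mem_centralizer_iff.1 hx _ hd : Commute (c * a⁻¹) x)).mul_right hxa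
      rwa [inv_mul_cancel_right] at c1
  have hD : Nat.card (K ⊓ C : Subgroup P) ≤ 4 * Nat.card (N ⊓ C : Subgroup P) :=
    h.card_le inf_le_right fun x hx => ⟨hsq x hx.1, mul_mem hx.2 hx.2⟩
  have hsplit : ∀ (X : Subgroup P) (hX : X ≤ P1),
      Nat.card X ≤ (f '' (X : Set P)).ncard * Nat.card (X ⊓ C : Subgroup P) := by
    intro X hX
    rw [card_split X f (fun x hx y hy => hfadd x (hX hx) y (hX hy))]
    exact Nat.mul_le_mul_left _ (card_le_of_le fun x hx => ⟨hx.1, hker x (hX hx.1) hx.2⟩)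
  have hNC : Nat.card (N ⊓ C : Subgroup P) ≤ Nat.card N := card_le_of_le inf_le_left
  have himg : ∀ S : Set P, (f '' S).ncard ≤ 4 := fun S => by
    refine (Set.ncard_le_card _).trans ?_
    exact (le_of_eq (Nat.card_congr Additive.toMul)).trans h.small
  by_cases hKP : K ≤ P1
  · have h1 := (hsplit K hKP).trans (Nat.mul_le_mul (himg _) hD)
    omega
  -- an element outside acts without fixing the involutions
  obtain ⟨t, htK, htP⟩ := SetLike.not_le_iff_exists.1 hKP
  have hE4 : ∀ g, g ∉ P1 → Nat.card (E1 A ⊓ centralizer ({g} : Set P) : Subgroup P) ≤ 2 ∧ Nat.card (E1 A) ≤ 4 := by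
    intro g hg
    refine ⟨?_, h.small⟩
    by_contra hlt
    push Not at hlt
    have h1 := card_le_of_le (inf_le_left : E1 A ⊓ centralizer ({g} : Set P) ≤ E1 A)
    have h2 := card_dvd_of_le (inf_le_left : E1 A ⊓ centralizer ({g} : Set P) ≤ E1 A)
    have hsm := h.small
    have heq : E1 A ⊓ centralizer ({g} : Set P) = E1 A := eq_of_le_of_card_ge inf_le_left (by
      obtain ⟨k, hk⟩ := h2
      rcases Nat.lt_or_ge k 2 with hk2 | hk2
      · interval_cases k
        · have : 0 < Nat.card (E1 A) := Nat.card_pos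
          omega
        · omega
      · have := Nat.mul_le_mul_left (Nat.card (E1 A ⊓ centralizer ({g} : Set P) : Subgroup P)) hk2
        omega)
    exact hg (mem_centralizer_iff.2 fun e he => mem_centralizer_singleton_iff.1 (heq.ge he).2 |>.symm.symm)
  let tau : P → Additive ↥(E1 A) := fun x =>
    if hx : t * dl x a * t⁻¹ ∈ E1 A then Additive.ofMul ⟨t * dl x a * t⁻¹, hx⟩ + f x else 0
  have htc : ∀ x ∈ P1, t * dl x a * t⁻¹ ∈ E1 A := fun x hx =>
    (inferInstance : (E1 A).Normal).conj_mem _ (hdl x hx) t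
  have hdlconj : ∀ x ∈ P1, dl (t * x * t⁻¹) a = t * dl x a * t⁻¹ := by
    intro x hx
    have hc : t⁻¹ * a * t ∈ A := by
      have := h.normal.conj_mem a ha t⁻¹
      rwa [inv_inv] at this
    have e1 : dl (t * x * t⁻¹) a = t * dl x (t⁻¹ * a * t) * t⁻¹ := by simp only [dl]; group
    rw [e1]
    congr 2
    -- the conjugate of `a` differs from `a` by an involution
    rcases hR _ hc with e | e
    · have ea : a * a = 1 := by
        rw [show a * a = t * (t⁻¹ * a * t * (t⁻¹ * a * t)) * t⁻¹ by group, e, mul_one, mul_inv_cancel]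
      rw [dl_eq_one.2 (mem_centralizer_iff.1 hx _ (h.memE1.2 ⟨hc, e⟩)).symm,
        dl_eq_one.2 (mem_centralizer_iff.1 hx _ (h.memE1.2 ⟨ha, ea⟩)).symm]
    · set u := t⁻¹ * a * t * a⁻¹ with hu
      have hd : u ∈ E1 A := h.fibre (h.A_le hc) (h.A_le ha) e
      rw [show t⁻¹ * a * t = u * a by rw [hu]; group]
      have hxu : x * u * x⁻¹ = u := hfix x hx u hd
      calc dl x (u * a) = (x * u * x⁻¹) * dl x a * u⁻¹ := by simp only [dl]; group
        _ = dl x a := by rw [hxu, hd.2.2 _ (hdl x hx).1, mul_inv_cancel_right]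
  have htau : ∀ x ∈ K ⊓ P1, ∀ y ∈ K ⊓ P1, tau (x * y) = tau x + tau y := by
    intro x hx y hy
    simp only [tau, htc _ (mul_mem hx.2 hy.2), htc x hx.2, htc y hy.2, dif_pos]
    rw [hfadd x hx.2 y hy.2]
    have e : (⟨t * dl (x * y) a * t⁻¹, htc _ (mul_mem hx.2 hy.2)⟩ : ↥(E1 A)) =
        ⟨t * dl x a * t⁻¹, htc x hx.2⟩ * ⟨t * dl y a * t⁻¹, htc y hy.2⟩ := by
      apply Subtype.ext
      show t * dl (x * y) a * t⁻¹ = t * dl x a * t⁻¹ * (t * dl y a * t⁻¹)
      rw [dl_mul_left, hfix x hx.2 _ (hdl y hy.2), (hdl y hy.2).2.2 _ (hdl x hx.2).1]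
      group
    rw [e, ofMul_mul]
    exact add_add_add_comm _ _ _ _
  have himg' : tau '' ((K ⊓ P1 : Subgroup P) : Set P) ⊆ f '' ((N ⊓ P1 : Subgroup P) : Set P) := by
    rintro _ ⟨k, hk, rfl⟩
    refine ⟨t * k * t⁻¹ * k⁻¹, mem_inf.2 ⟨SecRankFour.comm_mem hNK hn hsq htK hk.1,
      mul_mem (hnP.conj_mem k hk.2 t) ((P1).inv_mem hk.2)⟩, ?_⟩
    have hfi : f k⁻¹ = f k := by
      have h1 := hfadd k hk.2 k⁻¹ (inv_mem hk.2)
      rw [mul_inv_cancel] at h1
      have h0 : f 1 = 0 := by
        have := hfadd 1 P1.one_mem 1 P1.one_mem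
        rw [mul_one] at this
        exact left_eq_add.1 this
      rw [h0] at h1
      have h2 : f k + f k = 0 := Additive.toMul.injective (Subtype.ext (Additive.toMul (f k)).2.2.1)
      exact add_left_cancel (h1.symm.trans h2.symm)
    rw [hfadd _ (hnP.conj_mem k hk.2 t) _ (inv_mem hk.2), hfi]
    simp only [tau, htc k hk.2, dif_pos]
    congr 1
    simp [f, hdlconj k hk.2, htc k hk.2]
  have s1 := card_split (K ⊓ P1) tau htau
  set Z := kerOn (K ⊓ P1) tau htau with hZdef
  have hZ2 : (f '' (Z : Set P)).ncard ≤ 2 := by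
    refine le_trans ?_ (hE4 t htP).1
    rw [← Nat.card_coe_set_eq]
    refine Nat.card_le_card_of_injective (fun m => ⟨((Additive.toMul m.1 : ↥(E1 A)) : P),
      (Additive.toMul m.1).2, ?_⟩) fun m m' e => ?_
    · obtain ⟨x, hx, e⟩ := m.2
      have h0 := hx.2
      simp only [tau, htc x hx.1.2, dif_pos] at h0
      have h1 : t * dl x a * t⁻¹ * dl x a = 1 := by
        have := congrArg (fun q : Additive ↥(E1 A) => ((Additive.toMul q : ↥(E1 A)) : P)) h0
        simpa [hf x hx.1.2] using this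
      refine mem_centralizer_singleton_iff.2 ?_
      rw [← e, hf x hx.1.2]
      have h2 : t * dl x a * t⁻¹ = dl x a :=
        (mul_eq_one_iff_eq_inv.1 h1).trans (inv_eq_of_mul_eq_one_right (hdl x hx.1.2).2.1)
      exact (mul_inv_eq_iff_eq_mul.1 h2).symm
    · exact Subtype.ext (Additive.toMul.injective (Subtype.ext (congrArg Subtype.val e :)))
  have hZ : Nat.card Z ≤ 2 * (4 * Nat.card (N ⊓ C : Subgroup P)) :=
    ((hsplit Z fun x hx => hx.1.2).trans (Nat.mul_le_mul hZ2
      (card_le_of_le (inf_le_inf (fun x hx => hx.1.1) le_rfl)))).trans (Nat.mul_le_mul_left 2 hD)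
  have hdouble : Nat.card K ≤ 2 * Nat.card (K ⊓ P1 : Subgroup P) :=
    card_le_double fun g _ hg g' _ hg' => h.mul_mem_P1 hg hg'
  have hLN : (f '' ((N ⊓ P1 : Subgroup P) : Set P)).ncard * Nat.card (N ⊓ C : Subgroup P) ≤ Nat.card N := by
    have hC1 : Nat.card (N ⊓ C : Subgroup P) ≤ Nat.card (kerOn (N ⊓ P1) f fun x hx y hy => hfadd x hx.2 y hy.2) :=
      card_le_of_le fun x hx => ⟨⟨hx.1, hCP hx.2⟩, Additive.toMul.injective (Subtype.ext
        ((hf x (hCP hx.2)).trans (dl_eq_one.2 (h.CA hx.2 ha))))⟩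
    refine le_trans (Nat.mul_le_mul_left _ hC1) ?_
    rw [← card_split]
    exact card_le_of_le inf_le_left
  calc Nat.card K ≤ 2 * Nat.card (K ⊓ P1 : Subgroup P) := hdouble
    _ ≤ 2 * ((f '' ((N ⊓ P1 : Subgroup P) : Set P)).ncard * (2 * (4 * Nat.card (N ⊓ C : Subgroup P)))) := by
      rw [s1]
      exact Nat.mul_le_mul_left 2 (Nat.mul_le_mul (Set.ncard_le_ncard himg' (Set.toFinite _)) hZ)
    _ = 16 * ((f '' ((N ⊓ P1 : Subgroup P) : Set P)).ncard * Nat.card (N ⊓ C : Subgroup P)) := by ring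
    _ ≤ 16 * Nat.card N := Nat.mul_le_mul_left 16 hLN

end Cfsg.Agent.MacWilliams
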