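import Cfsg.Agent.Fusion.PGroup
import Cfsg.Agent.SecRankFour.Basic

/-!
2-groups with no normal elementary abelian subgroup of order eight: a maximal normal abelian subgroup `A` of
exponent at most four contains every element of order at most four of its centralizer.
-/

set_option autoImplicit false
set_option linter.style.haveILetI false
set_option maxHeartbeats 400000

namespace Cfsg.Agent.MacWilliams

open Subgroup
open scoped commutatorElement

variable {P : Type*} [Group P]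

theorem four_eq (a : P) : a ^ 4 = a * a * (a * a) := by
  rw [show 4 = 2 * 2 by norm_num, pow_mul, pow_two, pow_two]

theorem mul_mul_self_eq {a : P} (h : a ^ 4 = 1) : a * a * (a * a) = 1 := (four_eq a).symm.trans h

/-- the elements of `A` of order at most two commuting with `A` -/
def E1 (A : Subgroup P) : Subgroup P where
  carrier := {a | a ∈ A ∧ a * a = 1 ∧ ∀ b ∈ A, a * b = b * a}
  one_mem' := ⟨A.one_mem, by simp, fun b _ => by simp⟩
  mul_mem' := by
    rintro a b ⟨ha, ha2, hac⟩ ⟨hb, hb2, hbc⟩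
    refine ⟨mul_mem ha hb, ?_, fun c hc => ?_⟩
    · rw [show a * b * (a * b) = a * (b * a) * b by group, ← hac b hb,
        show a * (a * b) * b = a * a * (b * b) by group, ha2, hb2, mul_one]
    · rw [mul_assoc, hbc c hc, ← mul_assoc, hac c hc, mul_assoc]
  inv_mem' := by
    rintro a ⟨ha, ha2, hac⟩
    have e : a⁻¹ = a := inv_eq_of_mul_eq_one_right ha2
    exact ⟨inv_mem ha, by rw [e, ha2], fun b hb => by rw [e]; exact hac b hb⟩

/-- the standing hypotheses -/
structure Su (A : Subgroup P) : Prop where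
  two : IsPGroup 2 P
  normal : A.Normal
  comm : ∀ a ∈ A, ∀ b ∈ A, a * b = b * a
  exp : ∀ a ∈ A, a ^ 4 = 1
  omega : ∀ x : P, (∀ a ∈ A, x * a = a * x) → x ^ 4 = 1 → x ∈ A
  small : Nat.card (E1 A) ≤ 4
  noEight : ∀ x : P, x * x = 1 → (∀ a ∈ E1 A, x * a = a * x) →
    (∀ g : P, g * x * g⁻¹ * x⁻¹ ∈ E1 A) → x ∈ E1 A ∨ Nat.card (E1 A) ≤ 2

/-- an element which is not an involution has a power of order four -/
theorem exists_four (hP : IsPGroup 2 P) {u : P} (hu : u * u ≠ 1) :
    ∃ m : ℕ, (u ^ m) ^ 4 = 1 ∧ u ^ m * u ^ m ≠ 1 := by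
  obtain ⟨k, hk⟩ := (IsPGroup.iff_orderOf.1 hP) u
  have h2 : 2 ≤ k := by
    by_contra h
    refine hu ?_
    have h1 : orderOf u ∣ 2 := hk ▸ Nat.pow_dvd_pow 2 (show k ≤ 1 by omega)
    rw [← pow_two]
    exact orderOf_dvd_iff_pow_eq_one.1 h1
  refine ⟨2 ^ (k - 2), ?_, fun h => ?_⟩
  · rw [← pow_mul, show 2 ^ (k - 2) * 4 = orderOf u from ?_, pow_orderOf_eq_one]
    rw [hk, show 4 = 2 ^ 2 by norm_num, ← pow_add]
    congr 1
    omega
  · rw [← pow_add, ← two_mul] at h
    have h3 : orderOf u ∣ 2 * 2 ^ (k - 2) := orderOf_dvd_of_pow_eq_one h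
    rw [hk, ← pow_succ'] at h3
    have := Nat.pow_dvd_pow_iff_le_right (show 1 < 2 by norm_num) |>.1 h3
    omega

/-- an element inverted by an element centralising its powers of order four is an involution -/
theorem inverted_aux (hP : IsPGroup 2 P) {x u : P} (hinv : x * u * x⁻¹ = u⁻¹)
    (hfix : ∀ m : ℕ, (u ^ m) ^ 4 = 1 → x * u ^ m = u ^ m * x) : u * u = 1 := by
  by_contra hu
  obtain ⟨m, h4, h2⟩ := exists_four hP hu
  have h1 : x * u ^ m * x⁻¹ = (u⁻¹) ^ m := by rw [← conj_pow, hinv]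
  rw [hfix m h4, mul_inv_cancel_right, inv_pow] at h1
  exact h2 (mul_eq_one_iff_eq_inv.2 h1)

variable {A : Subgroup P}

theorem mem_E1 (h : ∀ a ∈ A, ∀ b ∈ A, a * b = b * a) {a : P} : a ∈ E1 A ↔ a ∈ A ∧ a * a = 1 :=
  ⟨fun ha => ⟨ha.1, ha.2.1⟩, fun ha => ⟨ha.1, ha.2, h a ha.1⟩⟩

theorem E1_normal (hn : A.Normal) (h : ∀ a ∈ A, ∀ b ∈ A, a * b = b * a) : (E1 A).Normal := by
  refine ⟨fun a ha g => (mem_E1 h).2 ⟨hn.conj_mem a ha.1 g, ?_⟩⟩
  rw [show g * a * g⁻¹ * (g * a * g⁻¹) = g * (a * a) * g⁻¹ by group, ha.2.1, mul_one, mul_inv_cancel]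

/-- Alperin: the elements of order at most four of the centralizer of a maximal `A` lie in `A` -/
theorem omega_of_max [Finite P] (hP : IsPGroup 2 P) (hn : A.Normal) (hc : ∀ a ∈ A, ∀ b ∈ A, a * b = b * a)
    (he : ∀ a ∈ A, a ^ 4 = 1)
    (hmax : ∀ B : Subgroup P, B.Normal → A ≤ B → (∀ a ∈ B, ∀ b ∈ B, a * b = b * a) → (∀ b ∈ B, b ^ 4 = 1) →
      B = A) :
    ∀ x : P, (∀ a ∈ A, x * a = a * x) → x ^ 4 = 1 → x ∈ A := by
  classical
  haveI := hn
  haveI : Fact (Nat.Prime 2) := ⟨Nat.prime_two⟩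
  let Good : Subgroup P → Prop := fun W =>
    W.Normal ∧ A ≤ W ∧ W ≤ centralizer (A : Set P) ∧ ∀ w ∈ W, w ^ 4 = 1 → w ∈ A
  have hA : Good A := ⟨hn, le_rfl, fun a ha => mem_centralizer_iff.2 fun b hb => hc b hb a ha, fun w hw _ => hw⟩
  haveI : Nonempty {W : Subgroup P // Good W} := ⟨⟨A, hA⟩⟩
  obtain ⟨⟨W, hWn, hAW, hWC, hW4⟩, hmaxW⟩ := Finite.exists_max fun W : {W : Subgroup P // Good W} => Nat.card W.1
  intro x hxA hx4
  haveI := hWn
  rcases eq_or_lt_of_le hWC with hWC' | hlt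
  · exact hW4 x (by rw [show W = centralizer (A : Set P) from hWC']; exact mem_centralizer_iff.2 fun a ha => (hxA a ha).symm) hx4
  exfalso
  obtain ⟨L, hLn, hWL, hLC, hLcard, hLcomm⟩ := Fusion.exists_normal_card_succ hP W _ hlt
  obtain ⟨y, hyL, hy4, hyA⟩ : ∃ y ∈ L, y ^ 4 = 1 ∧ y ∉ A := by
    by_contra hno
    push Not at hno
    have hle : Nat.card L ≤ Nat.card W := hmaxW ⟨L, hLn, hAW.trans hWL, hLC, fun w hw h4 => hno w hw h4⟩
    rw [hLcard] at hle
    have : 0 < Nat.card W := Nat.card_pos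
    omega
  have hyC : ∀ a ∈ A, y * a = a * y := fun a ha => (mem_centralizer_iff.1 (hLC hyL) a ha).symm
  have hidx : (W.subgroupOf L).index = 2 := by
    have h1 := (W.subgroupOf L).card_mul_index
    rw [Nat.card_congr (subgroupOfEquivOfLe hWL).toEquiv, hLcard, mul_comm 2] at h1
    exact Nat.eq_of_mul_eq_mul_left Nat.card_pos h1
  have hyW : y * y ∈ W := by
    have := mul_self_mem_of_index_two hidx ⟨y, hyL⟩
    simpa [mem_subgroupOf] using this
  have hyyA : y * y ∈ A := hW4 _ hyW (by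
    rw [← pow_two, ← pow_mul, show 2 * 4 = 4 * 2 by norm_num, pow_mul, hy4, one_pow])
  -- the conjugates of `y`
  have hconj : ∀ g : P, ∃ w ∈ W, g * y * g⁻¹ = y * w := by
    intro g
    refine ⟨y⁻¹ * (g * y * g⁻¹ * y⁻¹) * y, ?_, by group⟩
    have h1 : ⁅y, g⁆ ∈ W := hLcomm (commutator_mem_commutator hyL (mem_top g))
    have h2 := hWn.conj_mem _ (inv_mem h1) y⁻¹
    rw [inv_inv, commutatorElement_def] at h2
    convert h2 using 1
    group
  have hWA : ∀ w ∈ W, ∀ a ∈ A, w * a = a * w := fun w hw a ha => (mem_centralizer_iff.1 (hWC hw) a ha).symm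
  -- inside the centralizer the conjugates differ by involutions of `A`
  have hin : ∀ c : P, (∀ a ∈ A, c * a = a * c) → ∀ w ∈ W, c * y * c⁻¹ = y * w → w ∈ E1 A := by
    intro c hcA w hw e
    have h1 : y * w * (y * w) = y * y := by
      rw [← e, show c * y * c⁻¹ * (c * y * c⁻¹) = c * (y * y) * c⁻¹ by group, hcA _ hyyA, mul_inv_cancel_right]
    have h2 : y⁻¹ * w * y = w⁻¹ := by
      rw [show y⁻¹ * w * y = y⁻¹ * (y⁻¹ * (y * w * (y * w))) * w⁻¹ by group, h1]
      group
    have h3 : w * w = 1 := inverted_aux hP (x := y⁻¹) (by rw [inv_inv]; exact h2) fun m hm => by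
      have hmA := hW4 _ (pow_mem hw m) hm
      rw [inv_mul_eq_iff_eq_mul, ← mul_assoc, hyC _ hmA, mul_assoc, mul_inv_cancel, mul_one]
    exact (mem_E1 hc).2 ⟨hW4 w hw (by rw [show 4 = 2 * 2 by norm_num, pow_mul, pow_two w, h3, one_pow]), h3⟩
  have hout : ∀ g : P, g * y * g⁻¹ * y⁻¹ ∈ A := by
    intro g
    obtain ⟨w, hw, e⟩ := hconj g
    obtain ⟨w', hw', e'⟩ := hconj w
    have he1 := hin w (hWA w hw) w' hw' e'
    have hwy : w * y = y * w' * w := by rw [← e', inv_mul_cancel_right]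
    set a₀ := g * (y * y) * g⁻¹ with ha₀
    have ha₀A : a₀ ∈ A := hn.conj_mem _ hyyA g
    have h1 : a₀ = y * y * (w' * (w * w)) := by
      rw [ha₀, show g * (y * y) * g⁻¹ = g * y * g⁻¹ * (g * y * g⁻¹) by group, e,
        show y * w * (y * w) = y * (w * y) * w by group, hwy]
      group
    have hwwA : w * w ∈ A := by
      rw [show w * w = w'⁻¹ * ((y * y)⁻¹ * a₀) by rw [h1]; group]
      exact mul_mem (inv_mem he1.1) (mul_mem (inv_mem hyyA) ha₀A)
    have hww : (w * w) * (w * w) = 1 := by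
      have h2 : a₀ * a₀ = 1 := by
        rw [ha₀, show g * (y * y) * g⁻¹ * (g * (y * y) * g⁻¹) = g * (y * y * (y * y)) * g⁻¹ by group, mul_mul_self_eq hy4, mul_one, mul_inv_cancel]
      have h4 : y * y * (y * y) = 1 := mul_mul_self_eq hy4
      rw [h1] at h2
      have c1 : Commute (y * y) (w' * (w * w)) := hc _ hyyA _ (mul_mem he1.1 hwwA)
      have c2 : Commute w' (w * w) := hc _ he1.1 _ hwwA
      rw [c1.symm.mul_mul_mul_comm, h4, one_mul, c2.symm.mul_mul_mul_comm, he1.2.1, one_mul] at h2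
      exact h2
    have hw4 : w ^ 4 = 1 := (four_eq w).trans hww
    rw [e, show y * w * y⁻¹ = w from by rw [hyC w (hW4 w hw hw4), mul_inv_cancel_right]]
    exact hW4 w hw hw4
  -- enlarge `A`
  let B : Subgroup P :=
    { carrier := {z | z ∈ A ∨ z * y⁻¹ ∈ A}
      one_mem' := Or.inl A.one_mem
      mul_mem' := by
        rintro u v (hu | hu) (hv | hv)
        · exact Or.inl (mul_mem hu hv)
        · exact Or.inr (by rw [mul_assoc]; exact mul_mem hu hv)
        · refine Or.inr ?_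
          rw [show u * v * y⁻¹ = u * y⁻¹ * (y * v * y⁻¹) by group, hyC v hv, mul_inv_cancel_right]
          exact mul_mem hu hv
        · refine Or.inl ?_
          rw [show u * v = u * y⁻¹ * (y * (v * y⁻¹) * y⁻¹) * (y * y) by group, hyC _ hv, mul_inv_cancel_right]
          exact mul_mem (mul_mem hu hv) hyyA
      inv_mem' := by
        rintro u (hu | hu)
        · exact Or.inl (inv_mem hu)
        · refine Or.inr ?_
          rw [show u⁻¹ * y⁻¹ = y⁻¹ * (u * y⁻¹)⁻¹ * y * (y * y)⁻¹ by group,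
            show y⁻¹ * (u * y⁻¹)⁻¹ * y = (u * y⁻¹)⁻¹ from by
              rw [mul_assoc, ← hyC _ (inv_mem hu), inv_mul_cancel_left]]
          exact mul_mem (inv_mem hu) (inv_mem hyyA) }
  have hB : B = A := by
    refine hmax B ⟨fun z hz g => ?_⟩ (fun z hz => Or.inl hz) ?_ ?_
    · rcases hz with hz | hz
      · exact Or.inl (hn.conj_mem z hz g)
      · refine Or.inr ?_
        rw [show g * z * g⁻¹ * y⁻¹ = g * (z * y⁻¹) * g⁻¹ * (g * y * g⁻¹ * y⁻¹) by group]
        exact mul_mem (hn.conj_mem _ hz g) (hout g)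
    · have hBy : ∀ z ∈ B, ∃ a ∈ A, z = a ∨ z = a * y := by
        rintro z (hz | hz)
        · exact ⟨z, hz, Or.inl rfl⟩
        · exact ⟨_, hz, Or.inr (by group)⟩
      intro u hu v hv
      obtain ⟨a, ha, hu'⟩ := hBy u hu
      obtain ⟨b, hb, hv'⟩ := hBy v hv
      have c1 : Commute a b := hc a ha b hb
      have c2 : Commute y a := hyC a ha
      have c3 : Commute y b := hyC b hb
      rcases hu' with rfl | rfl <;> rcases hv' with rfl | rfl
      · exact c1
      · exact c1.mul_right c2.symm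
      · exact c1.mul_left c3
      · exact (c1.mul_right c2.symm).mul_left (c3.mul_right (Commute.refl y))
    · rintro z (hz | hz)
      · exact he z hz
      · have c : Commute (z * y⁻¹) y := (hyC _ hz).symm
        rw [show z = z * y⁻¹ * y by group, c.mul_pow, he _ hz, hy4, mul_one]
  exact hyA (hB.le (show y ∈ B from Or.inr (by rw [mul_inv_cancel]; exact A.one_mem)))

namespace Su

theorem memE1 (h : Su A) {a : P} : a ∈ E1 A ↔ a ∈ A ∧ a * a = 1 := mem_E1 h.comm

theorem sq_mem (h : Su A) {a : P} (ha : a ∈ A) : a * a ∈ E1 A :=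
  h.memE1.2 ⟨mul_mem ha ha, mul_mul_self_eq (h.exp a ha)⟩

/-- membership of the centralizer -/
theorem memC {x : P} : x ∈ centralizer (A : Set P) ↔ ∀ a ∈ A, x * a = a * x :=
  ⟨fun hx a ha => (mem_centralizer_iff.1 hx a ha).symm, fun hx => mem_centralizer_iff.2 fun a ha => (hx a ha).symm⟩

theorem CA (_h : Su A) {c a : P} (hc : c ∈ centralizer (A : Set P)) (ha : a ∈ A) : c * a = a * c :=
  memC.1 hc a ha

theorem A_le (h : Su A) : A ≤ centralizer (A : Set P) := fun a ha => memC.2 (h.comm a ha)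

theorem C_normal (h : Su A) : (centralizer (A : Set P)).Normal := by
  haveI := h.normal
  infer_instance

theorem mem_of_four (h : Su A) {c : P} (hc : c ∈ centralizer (A : Set P)) (h4 : c ^ 4 = 1) : c ∈ A :=
  h.omega c (memC.1 hc) h4

theorem mem_E1_of_sq (h : Su A) {c : P} (hc : c ∈ centralizer (A : Set P)) (h2 : c * c = 1) : c ∈ E1 A :=
  h.memE1.2 ⟨h.mem_of_four hc (by rw [show 4 = 2 * 2 by norm_num, pow_mul, pow_two c, h2, one_pow]), h2⟩

/-- two elements of the centralizer with the same square differ by an involution of `A` -/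
theorem fibre (h : Su A) {x y : P} (hx : x ∈ centralizer (A : Set P)) (hy : y ∈ centralizer (A : Set P))
    (he : x * x = y * y) : x * y⁻¹ ∈ E1 A := by
  have hz := mul_mem hx (inv_mem hy)
  refine h.mem_E1_of_sq hz (inverted_aux h.two (x := y) ?_ fun m hm => ?_)
  · calc y * (x * y⁻¹) * y⁻¹ = y * x * (y * y)⁻¹ := by group
      _ = y * x * (x * x)⁻¹ := by rw [he]
      _ = (x * y⁻¹)⁻¹ := by group
  · exact h.CA hy (h.mem_of_four (pow_mem hz m) hm)

/-- a subgroup of the centralizer has at most four times as many elements as squares -/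
theorem card_le_sq [Finite P] (h : Su A) {X : Subgroup P} (hX : X ≤ centralizer (A : Set P)) :
    Nat.card X ≤ 4 * ((fun x : P => x * x) '' (X : Set P)).ncard := by
  classical
  haveI := Fintype.ofFinite P
  have h1 := Finset.card_le_mul_card_image (f := fun x : P => x * x) (Finset.univ.filter (· ∈ X)) 4 (by
    intro s hs
    obtain ⟨y, hy, rfl⟩ := Finset.mem_image.1 hs
    simp only [Finset.mem_filter, Finset.mem_univ, true_and] at hy
    refine le_trans ?_ h.small
    rw [Nat.card_eq_fintype_card, ← Finset.card_univ]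
    refine Finset.card_le_card_of_injOn (fun x => if hx : x * y⁻¹ ∈ E1 A then ⟨_, hx⟩ else 1)
      (fun x _ => Finset.mem_coe.2 (Finset.mem_univ _)) ?_
    intro x hx x' hx' e
    simp only [Finset.coe_filter, Set.mem_ofPred_eq, Finset.mem_filter, Finset.mem_univ, true_and] at hx hx'
    have hf := h.fibre (hX hx.1) (hX hy) hx.2
    have hf' := h.fibre (hX hx'.1) (hX hy) hx'.2
    simp only [hf, hf', dite_true, Subtype.mk.injEq, mul_left_inj] at e
    exact e)
  rw [Nat.card_eq_fintype_card, Fintype.card_subtype]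
  convert h1 using 2
  rw [← Set.ncard_coe_finset]
  congr 1
  ext s
  simp

/-- squares fill a subgroup of index four -/
theorem exists_sqrt [Finite P] (h : Su A) {X N : Subgroup P} (hX : X ≤ centralizer (A : Set P))
    (hsq : ∀ x ∈ X, x * x ∈ N) (hcard : 4 * Nat.card N ≤ Nat.card X) {n : P} (hn : n ∈ N) :
    ∃ x ∈ X, x * x = n := by
  have h1 : ((fun x : P => x * x) '' (X : Set P)) = (N : Set P) := by
    refine Set.eq_of_subset_of_ncard_le (by rintro _ ⟨x, hx, rfl⟩; exact hsq x hx) ?_ (Set.toFinite _)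
    have h2 := h.card_le_sq hX
    rw [show (N : Set P).ncard = Nat.card N from (Nat.card_coe_set_eq _).symm]
    omega
  have : n ∈ (fun x : P => x * x) '' (X : Set P) := h1 ▸ hn
  exact this

/-- a subgroup of the centralizer has at most four times the order of a subgroup with all squares -/
theorem card_le [Finite P] (h : Su A) {X N : Subgroup P} (hX : X ≤ centralizer (A : Set P))
    (hsq : ∀ x ∈ X, x * x ∈ N) : Nat.card X ≤ 4 * Nat.card N := by
  refine (h.card_le_sq hX).trans (Nat.mul_le_mul_left 4 ?_)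
  rw [show Nat.card N = (N : Set P).ncard from Nat.card_coe_set_eq _]
  exact Set.ncard_le_ncard (by rintro _ ⟨x, hx, rfl⟩; exact hsq x hx) (Set.toFinite _)

/-- the commutative case -/
theorem comm_of_small [Finite P] (h : Su A) (hA : 4 * Nat.card (E1 A) ≤ Nat.card A)
    (hT : ∀ c ∈ centralizer (A : Set P), ∀ d ∈ centralizer (A : Set P), c ^ 8 = 1 → d ^ 8 = 1 →
      c ^ 4 ≠ 1 → d ^ 4 ≠ 1 → c ^ 4 = d ^ 4) :
    ∀ c ∈ centralizer (A : Set P), ∀ d ∈ centralizer (A : Set P), c * d = d * c := by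
  classical
  set C := centralizer (A : Set P) with hC
  obtain ⟨⟨c₀, hc₀⟩, hmax⟩ : ∃ c₀ : C, ∀ d : C, orderOf (d : P) ≤ orderOf (c₀ : P) :=
    Finite.exists_max fun d : C => orderOf (d : P)
  obtain ⟨n, hn⟩ := (IsPGroup.iff_orderOf.1 h.two) c₀
  by_cases hn3 : n ≤ 2
  · have hall : ∀ c ∈ C, c ∈ A := fun c hc => by
      refine h.mem_of_four hc (orderOf_dvd_iff_pow_eq_one.1 ?_)
      obtain ⟨k, hk⟩ := (IsPGroup.iff_orderOf.1 h.two) c
      have := hmax ⟨c, hc⟩
      rw [hk, hn] at this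
      rw [hk, show 4 = 2 ^ 2 by norm_num]
      exact Nat.pow_dvd_pow 2 (((Nat.pow_le_pow_iff_right one_lt_two).1 this).trans hn3)
    exact fun c hc d hd => h.comm c (hall c hc) d (hall d hd)
  push Not at hn3
  set z₀ := c₀ ^ 2 ^ (n - 3) with hz₀
  have hz8 : z₀ ^ 8 = 1 := by
    rw [hz₀, ← pow_mul, show 8 = 2 ^ 3 by norm_num, ← pow_add, show n - 3 + 3 = n by omega, ← hn, pow_orderOf_eq_one]
  have hz4 : z₀ ^ 4 ≠ 1 := fun e => by
    rw [hz₀, ← pow_mul, show 4 = 2 ^ 2 by norm_num, ← pow_add] at e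
    have := Nat.le_of_dvd (by positivity) (orderOf_dvd_of_pow_eq_one e)
    rw [hn] at this
    have := (Nat.pow_le_pow_iff_right one_lt_two).1 this
    omega
  suffices hgen : ∀ y ∈ C, ∃ a ∈ A, ∃ i : ℕ, y = a * c₀ ^ i by
    intro c hc d hd
    obtain ⟨a, ha, i, rfl⟩ := hgen c hc
    obtain ⟨b, hb, j, rfl⟩ := hgen d hd
    have c1 : Commute a b := h.comm a ha b hb
    have c2 : Commute c₀ a := h.CA hc₀ ha
    have c3 : Commute c₀ b := h.CA hc₀ hb
    exact (c1.mul_right (c2.pow_left j).symm).mul_left ((c3.pow_left i).mul_right (Commute.pow_pow_self c₀ i j))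
  have hbase : ∀ y ∈ C, y ^ 8 = 1 → ∃ a ∈ A, ∃ i : ℕ, y = a * c₀ ^ i := by
    intro y hy h8
    by_cases h4 : y ^ 4 = 1
    · exact ⟨y, h.mem_of_four hy h4, 0, by simp⟩
    have hzC : z₀ ∈ C := pow_mem hc₀ _
    have he := hT y hy z₀ hzC h8 hz8 h4 hz4
    have h1 := h.fibre (pow_mem hy 2) (pow_mem hzC 2) (by rw [← pow_add, ← pow_add]; exact he)
    have hdA : y ^ 2 * (z₀ ^ 2)⁻¹ ∈ A := h1.1
    obtain ⟨a, ha, hae⟩ : ∃ a ∈ A, a * a = y ^ 2 * (z₀ ^ 2)⁻¹ := by
      exact h.exists_sqrt (X := A) (N := E1 A) h.A_le (fun a ha => h.sq_mem ha) hA h1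
    have h2 := h.fibre hy (mul_mem (h.A_le ha) hzC) (by
      have c2 : Commute z₀ a := h.CA hzC ha
      rw [c2.mul_mul_mul_comm, hae, ← pow_two z₀, inv_mul_cancel_right, pow_two])
    refine ⟨y * (a * z₀)⁻¹ * a, mul_mem h2.1 ha, 2 ^ (n - 3), ?_⟩
    rw [← hz₀]
    group
  intro y
  induction hk : orderOf y using Nat.strong_induction_on generalizing y with
  | _ k ih =>
  intro hy
  by_cases h8 : y ^ 8 = 1
  · exact hbase y hy h8
  obtain ⟨j, hj⟩ := (IsPGroup.iff_orderOf.1 h.two) y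
  have hj4 : 4 ≤ j := by
    by_contra hh
    exact h8 (orderOf_dvd_iff_pow_eq_one.1 (by rw [hj, show 8 = 2 ^ 3 by norm_num]; exact Nat.pow_dvd_pow 2 (by omega)))
  have hjn : j ≤ n := by
    have := hmax ⟨y, hy⟩
    rw [hj, hn] at this
    exact (Nat.pow_le_pow_iff_right one_lt_two).1 this
  have hyy : y ^ 2 ∈ C := pow_mem hy 2
  have hlt : orderOf (y ^ 2) < k := by
    rw [← hk, orderOf_pow' y two_ne_zero, hj, Nat.gcd_eq_right (dvd_pow_self 2 (by omega))]
    exact Nat.div_lt_self (by positivity) one_lt_two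
  obtain ⟨a, ha, i, hai⟩ := ih _ hlt (y ^ 2) rfl hyy
  have cai : Commute a (c₀ ^ i) := (Commute.pow_left (show Commute c₀ a from h.CA hc₀ ha) i).symm
  obtain ⟨l, rfl⟩ : 2 ∣ i := by
    by_contra hodd
    have hone : (c₀ ^ i) ^ 2 ^ (n - 1) = 1 := by
      have e : c₀ ^ i = a⁻¹ * y ^ 2 := by rw [hai, inv_mul_cancel_left]
      have c : Commute a⁻¹ (y ^ 2) := (Commute.symm (show Commute (y ^ 2) a from h.CA hyy ha)).inv_left
      rw [e, c.mul_pow, ← pow_mul y, ← pow_succ']
      have h1 : a⁻¹ ^ 2 ^ (n - 1) = 1 := by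
        rw [show n - 1 = 2 + (n - 3) by omega, pow_add, pow_mul, inv_pow, show (2 : ℕ) ^ 2 = 4 by norm_num,
          h.exp a ha, inv_one, one_pow]
      rw [h1, one_mul, show n - 1 + 1 = j + (n - j) by omega, pow_add, pow_mul, ← hj, pow_orderOf_eq_one, one_pow]
    have hord : orderOf (c₀ ^ i) = 2 ^ n := by
      rw [orderOf_pow, hn, Nat.Coprime.gcd_eq_one, Nat.div_one]
      exact Nat.Coprime.pow_left n ((Nat.Prime.coprime_iff_not_dvd Nat.prime_two).2 hodd)
    have := Nat.le_of_dvd (by positivity) (orderOf_dvd_of_pow_eq_one hone)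
    rw [hord] at this
    have := (Nat.pow_le_pow_iff_right one_lt_two).1 this
    omega
  set w := c₀ ^ l with hw
  have hwC : w ∈ C := pow_mem hc₀ l
  have hyw : Commute y (w * w) := by
    have e : w * w = a⁻¹ * y ^ 2 := by
      rw [hai, inv_mul_cancel_left, hw, ← pow_add, two_mul]
    rw [e]
    exact (Commute.inv_right (show Commute y a from h.CA hy ha)).mul_right (Commute.self_pow y 2)
  have h1 := h.fibre (C_normal h |>.conj_mem w hwC y) hwC (by
    rw [show y * w * y⁻¹ * (y * w * y⁻¹) = y * (w * w) * y⁻¹ by group, hyw.eq, mul_inv_cancel_right])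
  -- `y` normalises `w` modulo the involutions of `A`
  have hz4' : (y * w⁻¹) ^ 8 = 1 := by
    have e2 : y ^ 2 = a * (w * w) := by rw [hai, hw, ← pow_add, two_mul]
    set f := y * w * y⁻¹ * w⁻¹ with hf
    have hfw : y * w = f * w * y := by rw [hf]; group
    have cf : Commute w f := h.CA hwC h1.1
    have cy : Commute y f := h.CA hy h1.1
    have e3 : (y * w⁻¹) ^ 2 = a * f := by
      have h3 : w⁻¹ * y = f * (y * w⁻¹) := by
        rw [show w⁻¹ * y = w⁻¹ * (y * w) * w⁻¹ by group, hfw, show w⁻¹ * (f * w * y) = w⁻¹ * (f * w) * y by group,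
          ← cf.eq, inv_mul_cancel_left, mul_assoc]
      rw [pow_two, show y * w⁻¹ * (y * w⁻¹) = y * (w⁻¹ * y) * w⁻¹ by group, h3,
        show y * (f * (y * w⁻¹)) * w⁻¹ = y * f * y * (w * w)⁻¹ by group, cy.eq,
        mul_assoc f y y, ← pow_two y, mul_assoc f, e2, mul_inv_cancel_right]
      exact h.comm f h1.1 a ha
    rw [show 8 = 2 * 4 by norm_num, pow_mul, e3]
    exact h.exp _ (mul_mem ha h1.1)
  obtain ⟨b, hb, m, hbm⟩ := hbase _ (mul_mem hy (inv_mem hwC)) hz4'
  refine ⟨b, hb, m + l, ?_⟩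
  rw [pow_add, ← mul_assoc, ← hbm, ← hw, inv_mul_cancel_right]

end Su

end Cfsg.Agent.MacWilliams
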