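import Mathlib

/-!
The finite computation behind MacWilliams' rank theorem: additive subsets of the 2 × 2 matrices over `F₂`, closed
under a transvection and under adding matrices without fixed vectors.
-/

set_option autoImplicit false

namespace Cfsg.Agent.MacWilliams

/-- vectors -/
abbrev V := ZMod 2 × ZMod 2

/-- matrices, given by the images of the two basis vectors -/
abbrev Mt := V × V

/-- matrix action -/
def app (M : Mt) (x : V) : V := (x.1 * M.1.1 + x.2 * M.2.1, x.1 * M.1.2 + x.2 * M.2.2)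

/-- the transvection -/
def tv (x : V) : V := (x.1 + x.2, x.2)

/-- conjugation by the transvection -/
def conjM (M : Mt) : Mt := (tv M.1, tv (M.1 + M.2))

/-- no non-zero fixed vector -/
def good (M : Mt) : Prop := ∀ x : V, app M x = x → x = 0

instance : DecidablePred good := fun M => inferInstanceAs (Decidable (∀ x : V, app M x = x → x = 0))

/-- the central nilpotent matrix -/
def e12 : Mt := ((0, 0), (1, 0))

/-- the three non-zero nilpotent matrices -/
def nils : List Mt := [((0, 0), (1, 0)), ((0, 1), (0, 0)), ((1, 1), (1, 1))]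

/-- the two matrices of order three -/
def omegas : List Mt := [((0, 1), (1, 1)), ((1, 1), (1, 0))]

/-- a linear functional -/
def dot (f M : Mt) : ZMod 2 := f.1.1 * M.1.1 + f.1.2 * M.1.2 + (f.2.1 * M.2.1 + f.2.2 * M.2.2)

/-- one closing step -/
def step (S : Finset Mt) : Finset Mt :=
  S ∪ S.image conjM ∪ ((S.filter good) ×ˢ S).image (fun p => p.1 + p.2)

theorem e12_props : good e12 ∧ e12 ≠ 0 ∧ conjM e12 = e12 := by decide +kernel

theorem omega_props : ∀ M ∈ omegas, good M ∧ M ≠ 0 ∧ ∀ x, app M x = 0 → x = 0 := by decide +kernel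

theorem nils_props : ∀ M ∈ nils, good M ∧ M ≠ 0 := by decide +kernel

theorem nils_ker : ∀ M ∈ nils, ∀ M' ∈ nils, M ≠ M' → ∀ x, app M x = 0 → app M' x = 0 → x = 0 := by
  decide +kernel

theorem conjM_add : ∀ M N : Mt, conjM (M + N) = conjM M + conjM N := by decide +kernel

theorem conjM_fix : ∀ M : Mt, conjM M + M = 0 →
    M = 0 ∨ M = ((1, 0), (0, 1)) ∨ M = e12 ∨ M = ((1, 0), (1, 1)) := by decide +kernel

theorem idem_good_aux : ∀ p : Mt × V × V, (good p.1 ∧ p.2.1 ≠ 0 ∧ p.2.2 ≠ 0 ∧ p.2.1 ≠ p.2.2 ∧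
    app p.1 (app p.1 p.2.1) = app p.1 p.2.1 ∧ app p.1 (app p.1 p.2.2) = app p.1 p.2.2) → p.1 = 0 := by decide +kernel

theorem idem_good (M : Mt) (hg : good M) (x y : V) (hx : x ≠ 0) (hy : y ≠ 0) (hxy : x ≠ y)
    (h1 : app M (app M x) = app M x) (h2 : app M (app M y) = app M y) : M = 0 :=
  idem_good_aux (M, x, y) ⟨hg, hx, hy, hxy, h1, h2⟩

theorem two_span : ∀ x y : V, x ≠ 0 → y ≠ 0 → x ≠ y → ∀ v : V, v = 0 ∨ v = x ∨ v = y ∨ v = x + y := by
  decide +kernel

theorem good_in_ker : ∀ f : Mt, ∃ M : Mt, dot f M = 0 ∧ good M ∧ M ≠ 0 := by decide +kernel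

theorem e12_in_closure : ∀ f : Mt, e12 ∈ step (step (step (Finset.univ.filter fun M => dot f M = 0))) := by
  decide +kernel

theorem e12_in_closure_pairs : ∀ M ∈ nils, ∀ M' ∈ nils, M ≠ M' →
    e12 ∈ step (step (step (step ({M, M'} ∪ omegas.toFinset)))) := by decide +kernel

theorem add_self_Mt : ∀ x : Mt, x + x = 0 := by decide +kernel

/-- a predicate closed under the two operations contains the closure -/
theorem step_sound {S : Mt → Prop} (hc : ∀ M, S M → S (conjM M)) (ha : ∀ M N, good M → S M → S N → S (M + N))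
    {s : Finset Mt} (hs : ∀ M ∈ s, S M) : ∀ M ∈ step s, S M := by
  intro M hM
  simp only [step, Finset.mem_union, Finset.mem_image, Finset.mem_product, Finset.mem_filter] at hM
  rcases hM with (h | ⟨N, hN, rfl⟩) | ⟨⟨N, N'⟩, ⟨⟨hN, hg⟩, hN'⟩, rfl⟩
  · exact hs M h
  · exact hc N (hs N hN)
  · exact ha N N' hg (hs N hN) (hs N' hN')

/-- a set whose complement has all sums inside, and closed under sums, is a kernel -/
theorem exists_dot {p : Mt → Prop} (hadd : ∀ x y, p x → p y → p (x + y))
    (hidx : ∀ x y, ¬ p x → ¬ p y → p (x + y)) : ∃ f : Mt, ∀ M, dot f M = 0 → p M := by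
  classical
  have hmix : ∀ x y, p x → ¬ p y → ¬ p (x + y) := fun x y hx hy h => hy (by
    have h1 := hadd x (x + y) hx h
    rwa [← add_assoc, add_self_Mt, zero_add] at h1)
  let l : Mt → ZMod 2 := fun M => if p M then 0 else 1
  have hl : ∀ x y, l (x + y) = l x + l y := fun x y => by
    show (if p (x + y) then (0 : ZMod 2) else 1) = (if p x then 0 else 1) + (if p y then 0 else 1)
    by_cases hx : p x <;> by_cases hy : p y
    · simp [hx, hy, hadd x y hx hy]
    · simp [hx, hy, hmix x y hx hy]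
    · simp [hx, hy, add_comm x y, hmix y x hy hx]
    · simp only [hx, hy, hidx x y hx hy, if_true, if_false]
      decide
  let L : Mt →+ ZMod 2 := AddMonoidHom.mk' l hl
  refine ⟨((L ((1, 0), (0, 0)), L ((0, 1), (0, 0))), (L ((0, 0), (1, 0)), L ((0, 0), (0, 1)))), fun M hM => ?_⟩
  have hsc : ∀ (e : Mt) (c : ZMod 2), L (if c = 1 then e else 0) = L e * c := by
    intro e c
    rcases (show c = 0 ∨ c = 1 by revert c; decide) with rfl | rfl
    · rw [if_neg (by decide), map_zero, mul_zero]
    · rw [if_pos rfl, mul_one]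
  have hM' : ∀ M : Mt, M = (if M.1.1 = 1 then ((1, 0), (0, 0)) else 0) + (if M.1.2 = 1 then ((0, 1), (0, 0)) else 0)
      + ((if M.2.1 = 1 then ((0, 0), (1, 0)) else 0) + (if M.2.2 = 1 then ((0, 0), (0, 1)) else 0)) := by
    decide +kernel
  have h0 : L M = 0 := by
    rw [hM' M, map_add, map_add, map_add, hsc, hsc, hsc, hsc]
    exact hM
  by_contra hp
  have h1 : l M = 0 := h0
  simp [l, hp] at h1

end Cfsg.Agent.MacWilliams
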