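import Cfsg.Agent.MacWilliams.Basic
import Cfsg.Agent.MacWilliams.Finite

/-!
Coordinates for the action on `A ≅ ℤ/4 × ℤ/4`: the elements centralizing the involutions of `A` give matrices
over `F₂`; those among them whose matrix has no fixed vector and whose square is a square in the centralizer
lift to involutions.
-/

set_option autoImplicit false
set_option linter.unusedSectionVars false
set_option linter.style.haveILetI false
set_option maxHeartbeats 400000

namespace Cfsg.Agent.MacWilliams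

open Subgroup

variable {P : Type*} [Group P]

/-- `A` is homocyclic of exponent four on the generators `a`, `b`, and `a * a` is central -/
structure Co (A : Subgroup P) (a b : P) : Prop where
  su : Su A
  ha : a ∈ A
  hb : b ∈ A
  card : Nat.card (E1 A) = 4
  ne_z : a * a ≠ 1
  ne_w : b * b ≠ 1
  ne_zw : a * a ≠ b * b
  central : ∀ g : P, g * (a * a) = a * a * g

/-- the involution with coordinates `x` -/
def iota (a b : P) (x : V) : P := (a * a) ^ x.1.val * (b * b) ^ x.2.val

/-- coordinates of an involution -/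
noncomputable def co (a b e : P) : V := Function.invFun (iota a b) e

/-- the commutator -/
def dl (x c : P) : P := x * c * x⁻¹ * c⁻¹

/-- the matrix of `x` -/
noncomputable def phi (a b x : P) : Mt := (co a b (dl x a), co a b (dl x b))

/-- the square of `x` is a square in the centralizer of `A` -/
def SqC (A : Subgroup P) (x : P) : Prop := ∃ e ∈ centralizer (A : Set P), x * x = e * e

/-- matrices with a lift whose square is a square in the centralizer -/
def Sig (A : Subgroup P) (a b : P) (M : Mt) : Prop :=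
  ∃ x ∈ centralizer (E1 A : Set P), phi a b x = M ∧ SqC A x

theorem V_cases : ∀ v : V, v = (0, 0) ∨ v = (1, 0) ∨ v = (0, 1) ∨ v = (1, 1) := by decide +kernel

theorem V_add_self : ∀ v : V, v + v = 0 := by decide +kernel

theorem dl_mul_left (x y c : P) : dl (x * y) c = x * dl y c * x⁻¹ * dl x c := by
  simp only [dl]; group

theorem dl_eq_one {x c : P} : dl x c = 1 ↔ x * c = c * x :=
  ⟨fun h => mul_inv_eq_iff_eq_mul.1 (mul_inv_eq_one.1 h),
    fun h => by rw [dl, h, mul_inv_cancel_right, mul_inv_cancel]⟩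

namespace Co

variable {A : Subgroup P} {a b : P}

section

variable (h : Co A a b)
include h

theorem z_mem : a * a ∈ E1 A := h.su.sq_mem h.ha

theorem w_mem : b * b ∈ E1 A := h.su.sq_mem h.hb

theorem iota_mem (x : V) : iota a b x ∈ E1 A := mul_mem (pow_mem h.z_mem _) (pow_mem h.w_mem _)

theorem iota_add (x y : V) : iota a b (x + y) = iota a b x * iota a b y := by
  have key : ∀ (u : P), u * u = 1 → ∀ i j : ZMod 2, u ^ (i + j).val = u ^ i.val * u ^ j.val := by
    intro u hu i j
    rcases (show i = 0 ∨ i = 1 by revert i; decide) with rfl | rfl <;>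
      rcases (show j = 0 ∨ j = 1 by revert j; decide) with rfl | rfl
    · simp
    · simp [ZMod.val_one]
    · simp [ZMod.val_one]
    · simp [ZMod.val_one, hu, show (1 : ZMod 2) + 1 = 0 by decide]
  have c : ∀ i j : ℕ, Commute ((b * b) ^ i) ((a * a) ^ j) := fun i j =>
    Commute.pow_pow (h.central (b * b)) i j
  simp only [iota, Prod.fst_add, Prod.snd_add]
  rw [key _ h.z_mem.2.1, key _ h.w_mem.2.1, (c _ _).symm.mul_mul_mul_comm]

theorem iota_zero : iota a b 0 = 1 := by simp [iota]

theorem iota_inj : Function.Injective (iota a b) := by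
  intro x y e
  have h2 : iota a b (x + y) = 1 := by
    rw [h.iota_add, e, (h.iota_mem y).2.1]
  have key : ∀ v : V, iota a b v = 1 → v = 0 := by
    intro v
    have hall := V_cases v
    rcases hall with rfl | rfl | rfl | rfl
    · intro _; rfl
    · intro hv; exact absurd (by simpa [iota, ZMod.val_one] using hv) h.ne_z
    · intro hv; exact absurd (by simpa [iota, ZMod.val_one] using hv) h.ne_w
    · intro hv
      simp only [iota, ZMod.val_one, pow_one] at hv
      exact absurd ((mul_eq_one_iff_eq_inv.1 hv).trans (inv_eq_of_mul_eq_one_right h.w_mem.2.1)) h.ne_zw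
  have h3 := key _ h2
  calc x = x + (y + y) := by rw [V_add_self, add_zero]
    _ = x + y + y := by rw [add_assoc]
    _ = y := by rw [h3, zero_add]

theorem co_iota (x : V) : co a b (iota a b x) = x := Function.leftInverse_invFun h.iota_inj x

theorem iota_surj [Finite P] {e : P} (he : e ∈ E1 A) : ∃ x, iota a b x = e := by
  have hb : Function.Bijective (fun x : V => (⟨iota a b x, h.iota_mem x⟩ : E1 A)) := by
    refine (Nat.bijective_iff_injective_and_card _).2 ⟨fun x y e => h.iota_inj (congrArg Subtype.val e), ?_⟩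
    rw [h.card, Nat.card_eq_fintype_card]
    rfl
  obtain ⟨x, hx⟩ := hb.2 ⟨e, he⟩
  exact ⟨x, congrArg Subtype.val hx⟩

theorem iota_co [Finite P] {e : P} (he : e ∈ E1 A) : iota a b (co a b e) = e := by
  obtain ⟨x, rfl⟩ := h.iota_surj he
  rw [h.co_iota]

theorem co_one : co a b (1 : P) = 0 := by rw [← h.iota_zero, h.co_iota]

theorem co_mul [Finite P] {e f : P} (he : e ∈ E1 A) (hf : f ∈ E1 A) : co a b (e * f) = co a b e + co a b f := by
  obtain ⟨x, rfl⟩ := h.iota_surj he
  obtain ⟨y, rfl⟩ := h.iota_surj hf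
  rw [← h.iota_add, h.co_iota, h.co_iota, h.co_iota]

theorem co_eq_zero [Finite P] {e : P} (he : e ∈ E1 A) (e0 : co a b e = 0) : e = 1 := by
  rw [← h.iota_co he, e0, h.iota_zero]

theorem exists_root [Finite P] {e : P} (he : e ∈ E1 A) : ∃ a' ∈ A, a' * a' = e := by
  obtain ⟨x, rfl⟩ := h.iota_surj he
  refine ⟨a ^ x.1.val * b ^ x.2.val, mul_mem (pow_mem h.ha _) (pow_mem h.hb _), ?_⟩
  rw [(Commute.pow_pow (show Commute b a from h.su.comm b h.hb a h.ha) x.2.val x.1.val).mul_mul_mul_comm,
    ← (Commute.refl a).mul_pow, ← (Commute.refl b).mul_pow]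
  rfl

theorem P1_fix {x e : P} (hx : x ∈ centralizer (E1 A : Set P)) (he : e ∈ E1 A) : x * e * x⁻¹ = e := by
  rw [← mem_centralizer_iff.1 hx e he, mul_inv_cancel_right]

theorem E1_comm {e f : P} (he : e ∈ E1 A) (hf : f ∈ E1 A) : e * f = f * e := he.2.2 f hf.1

theorem C_le_P1 : centralizer (A : Set P) ≤ centralizer (E1 A : Set P) :=
  centralizer_le fun _ he => he.1

theorem dl_mem [Finite P] {x c : P} (hx : x ∈ centralizer (E1 A : Set P)) (hc : c ∈ A) : dl x c ∈ E1 A := by
  refine h.su.fibre (h.su.A_le (h.su.normal.conj_mem c hc x)) (h.su.A_le hc) ?_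
  rw [show x * c * x⁻¹ * (x * c * x⁻¹) = x * (c * c) * x⁻¹ by group, h.P1_fix hx (h.su.sq_mem hc)]

theorem dl_mul {x c d : P} (hx : x ∈ centralizer (E1 A : Set P)) (hc : c ∈ A) (hd : d ∈ A) [Finite P] :
    dl x (c * d) = dl x c * dl x d := by
  have e1 : dl x (c * d) = dl x c * (c * dl x d * c⁻¹) := by simp only [dl]; group
  rw [e1, ← h.su.comm _ (h.dl_mem hx hd).1 c hc, mul_inv_cancel_right]

theorem dl_pow {x c : P} (hx : x ∈ centralizer (E1 A : Set P)) (hc : c ∈ A) [Finite P] (n : ℕ) :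
    dl x (c ^ n) = dl x c ^ n := by
  induction n with
  | zero => simp [dl]
  | succ n ih => rw [pow_succ, h.dl_mul hx (pow_mem hc n) hc, ih, pow_succ]

/-- the commutator with an element of `A` is given by the matrix -/
theorem co_dl [Finite P] {x c : P} (hx : x ∈ centralizer (E1 A : Set P)) (hc : c ∈ A) :
    co a b (dl x c) = app (phi a b x) (co a b (c * c)) := by
  set v := co a b (c * c) with hv
  set c' := a ^ v.1.val * b ^ v.2.val with hc'
  have hc'A : c' ∈ A := mul_mem (pow_mem h.ha _) (pow_mem h.hb _)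
  have hsq : c' * c' = c * c := by
    rw [hc', (Commute.pow_pow (show Commute b a from h.su.comm b h.hb a h.ha) v.2.val v.1.val).mul_mul_mul_comm,
      ← (Commute.refl a).mul_pow, ← (Commute.refl b).mul_pow]
    exact h.iota_co (h.su.sq_mem hc)
  have hd := h.su.fibre (h.su.A_le hc) (h.su.A_le hc'A) hsq.symm
  have h1 : dl x (c * c'⁻¹) = 1 := dl_eq_one.2 (mem_centralizer_iff.1 hx _ hd).symm
  have h2 : dl x c = dl x c' := by
    conv_lhs => rw [show c = c * c'⁻¹ * c' by group]
    rw [h.dl_mul hx hd.1 hc'A, h1, one_mul]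
  rw [h2, hc', h.dl_mul hx (pow_mem h.ha _) (pow_mem h.hb _), h.dl_pow hx h.ha, h.dl_pow hx h.hb,
    h.co_mul (pow_mem (h.dl_mem hx h.ha) _) (pow_mem (h.dl_mem hx h.hb) _)]
  have key : ∀ (u : P), u ∈ E1 A → ∀ i : ZMod 2, co a b (u ^ i.val) = (i * (co a b u).1, i * (co a b u).2) := by
    intro u _ i
    rcases (show i = 0 ∨ i = 1 by revert i; decide) with rfl | rfl
    · rw [ZMod.val_zero, pow_zero, h.co_one, zero_mul, zero_mul]; rfl
    · rw [ZMod.val_one, pow_one, one_mul, one_mul]
  rw [key _ (h.dl_mem hx h.ha), key _ (h.dl_mem hx h.hb)]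
  rfl

theorem phi_mul [Finite P] {x y : P} (hx : x ∈ centralizer (E1 A : Set P)) (hy : y ∈ centralizer (E1 A : Set P)) :
    phi a b (x * y) = phi a b x + phi a b y := by
  have key : ∀ c ∈ A, co a b (dl (x * y) c) = co a b (dl x c) + co a b (dl y c) := fun c hc => by
    rw [dl_mul_left, h.P1_fix hx (h.dl_mem hy hc), h.co_mul (h.dl_mem hy hc) (h.dl_mem hx hc), add_comm]
  simp only [phi, key a h.ha, key b h.hb]
  rfl

theorem phi_of_C {x : P} (hx : x ∈ centralizer (A : Set P)) : phi a b x = 0 := by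
  simp only [phi, dl_eq_one.2 (h.su.CA hx h.ha), dl_eq_one.2 (h.su.CA hx h.hb), h.co_one]
  rfl

theorem C_of_phi [Finite P] {x : P} (hx : x ∈ centralizer (E1 A : Set P)) (e : phi a b x = 0) :
    x ∈ centralizer (A : Set P) := by
  refine Su.memC.2 fun c hc => dl_eq_one.1 (h.co_eq_zero (h.dl_mem hx hc) ?_)
  rw [h.co_dl hx hc, e]
  simp [app]

theorem phi_one : phi a b (1 : P) = 0 := h.phi_of_C (one_mem _)

theorem phi_inv [Finite P] {x : P} (hx : x ∈ centralizer (E1 A : Set P)) : phi a b x⁻¹ = phi a b x := by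
  have h1 := h.phi_mul (inv_mem hx) hx
  rw [inv_mul_cancel, h.phi_one] at h1
  calc phi a b x⁻¹ = phi a b x⁻¹ + (phi a b x + phi a b x) := by rw [add_self_Mt, add_zero]
    _ = phi a b x := by rw [← add_assoc, ← h1, zero_add]

theorem sq_mem_C [Finite P] {x : P} (hx : x ∈ centralizer (E1 A : Set P)) : x * x ∈ centralizer (A : Set P) :=
  h.C_of_phi (mul_mem hx hx) (by rw [h.phi_mul hx hx, add_self_Mt])

/-- an element outside the centralizer of the involutions acts as the transvection -/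
theorem swap [Finite P] {g : P} (hg : g ∉ centralizer (E1 A : Set P)) (v : V) :
    g * iota a b v * g⁻¹ = iota a b (tv v) := by
  haveI := E1_normal h.su.normal h.su.comm
  have hz : g * (a * a) * g⁻¹ = a * a := by rw [h.central g, mul_inv_cancel_right]
  have hw : g * (b * b) * g⁻¹ = a * a * (b * b) := by
    obtain ⟨x, hx⟩ := h.iota_surj ((inferInstance : (E1 A).Normal).conj_mem _ h.w_mem g)
    have hall := V_cases x
    rcases hall with rfl | rfl | rfl | rfl <;> simp only [iota, ZMod.val_one, ZMod.val_zero, pow_one, pow_zero, one_mul, mul_one] at hx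
    · refine absurd ?_ h.ne_w
      rw [show b * b = g⁻¹ * (g * (b * b) * g⁻¹) * g by group, ← hx]
      group
    · refine absurd ?_ h.ne_zw
      rw [show b * b = g⁻¹ * (g * (b * b) * g⁻¹) * g by group, ← hx, mul_assoc, ← h.central g, inv_mul_cancel_left]
    · refine absurd (mem_centralizer_iff.2 fun e he => ?_) hg
      obtain ⟨y, rfl⟩ := h.iota_surj he
      have h1 : Commute g (a * a) := h.central g
      have h2 : Commute g (b * b) := mul_inv_eq_iff_eq_mul.1 hx.symm
      exact ((h1.pow_right y.1.val).mul_right (h2.pow_right y.2.val)).symm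
    · exact hx.symm
  have e : g * iota a b v * g⁻¹ = (g * (a * a) * g⁻¹) ^ v.1.val * (g * (b * b) * g⁻¹) ^ v.2.val := by
    rw [conj_pow, conj_pow, iota]
    group
  rw [e, hz, hw]
  have hall := V_cases v
  rcases hall with rfl | rfl | rfl | rfl
  · simp [iota, tv]
  · simp [iota, tv, ZMod.val_one]
  · simp [iota, tv, ZMod.val_one]
  · simp [iota, tv, ZMod.val_one, show (1 : ZMod 2) + 1 = 0 by decide]
    rw [← mul_assoc, h.z_mem.2.1, one_mul]

theorem phi_conj_out [Finite P] {g x : P} (hg : g ∉ centralizer (E1 A : Set P))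
    (hx : x ∈ centralizer (E1 A : Set P)) : phi a b (g * x * g⁻¹) = conjM (phi a b x) := by
  haveI := E1_normal h.su.normal h.su.comm
  haveI : (centralizer (E1 A : Set P)).Normal := inferInstance
  have hg' : g⁻¹ ∉ centralizer (E1 A : Set P) := fun hh => hg ((inv_mem_iff).1 hh)
  have key : ∀ c ∈ A, ∀ v : V, iota a b v = c * c →
      co a b (dl (g * x * g⁻¹) c) = tv (app (phi a b x) (tv v)) := by
    intro c hc v hv
    have hc' : g⁻¹ * c * g ∈ A := by
      have := h.su.normal.conj_mem c hc g⁻¹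
      rwa [inv_inv] at this
    have h1 : g⁻¹ * c * g * (g⁻¹ * c * g) = iota a b (tv v) := by
      rw [← h.swap hg' v, hv]; group
    have h2 : dl (g * x * g⁻¹) c = g * dl x (g⁻¹ * c * g) * g⁻¹ := by simp only [dl]; group
    rw [h2, ← h.iota_co (h.dl_mem hx hc'), h.swap hg, h.co_iota, h.co_dl hx hc', h1, h.co_iota]
  have h10 : iota a b ((1, 0) : V) = a * a := by simp [iota, ZMod.val_one]
  have h01 : iota a b ((0, 1) : V) = b * b := by simp [iota, ZMod.val_one]
  show ((co a b (dl (g * x * g⁻¹) a), co a b (dl (g * x * g⁻¹) b)) : Mt) = conjM (phi a b x)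
  rw [key a h.ha _ h10, key b h.hb _ h01]
  generalize phi a b x = M
  revert M
  decide +kernel

theorem phi_conj_in [Finite P] {g x : P} (hg : g ∈ centralizer (E1 A : Set P))
    (hx : x ∈ centralizer (E1 A : Set P)) : phi a b (g * x * g⁻¹) = phi a b x := by
  rw [h.phi_mul (mul_mem hg hx) (inv_mem hg), h.phi_mul hg hx, h.phi_inv hg, add_comm (phi a b g), add_assoc,
    add_self_Mt, add_zero]

/-- an element with a good matrix inverts only involutions -/
theorem inverted [Finite P] {x u : P} (hx : x ∈ centralizer (E1 A : Set P)) (hgood : good (phi a b x))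
    (hu : u ∈ centralizer (A : Set P)) (hinv : x * u * x⁻¹ = u⁻¹) : u ∈ E1 A := by
  refine h.su.mem_E1_of_sq hu ?_
  by_contra h2
  obtain ⟨m, h4, hm2⟩ := exists_four h.su.two h2
  have hmA := h.su.mem_of_four (pow_mem hu m) h4
  have he : dl x (u ^ m) = u ^ m * u ^ m := by
    rw [dl, ← conj_pow, hinv, inv_pow]
    calc (u ^ m)⁻¹ * (u ^ m)⁻¹ = (u ^ m * u ^ m)⁻¹ := by group
      _ = u ^ m * u ^ m := inv_eq_of_mul_eq_one_right (mul_mul_self_eq h4)
  have h3 := h.co_dl hx hmA
  rw [he] at h3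
  exact hm2 (h.co_eq_zero (h.su.sq_mem hmA) (hgood _ h3.symm))

/-- the centre of the squares: an element whose square centralizes an element of order eight -/
theorem relation [Finite P] {x c : P} (hx : x ∈ centralizer (E1 A : Set P)) (hc : c ∈ centralizer (A : Set P))
    (h8 : c ^ 8 = 1) (hcom : x * x * c = c * (x * x)) :
    app (phi a b x) (app (phi a b x) (co a b (c ^ 4))) = app (phi a b x) (co a b (c ^ 4)) := by
  have hc2 : c * c ∈ A := h.su.mem_of_four (mul_mem hc hc) (by rw [← pow_two, ← pow_mul]; exact h8)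
  have e4 : c * c * (c * c) = c ^ 4 := (four_eq c).symm
  set e := dl x (c * c) with he
  have heE : e ∈ E1 A := h.dl_mem hx hc2
  obtain ⟨a', ha', hroot⟩ := h.exists_root heE
  haveI := h.su.C_normal
  have hconj : x * c * x⁻¹ ∈ centralizer (A : Set P) := h.su.C_normal.conj_mem c hc x
  have hsq : x * c * x⁻¹ * (x * c * x⁻¹) = a' * c * (a' * c) := by
    rw [(show Commute c a' from h.su.CA hc ha').mul_mul_mul_comm, hroot, he, dl]
    group
  have hf := h.su.fibre hconj (mul_mem (h.su.A_le ha') hc) hsq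
  set f := x * c * x⁻¹ * (a' * c)⁻¹ with hfdef
  have hd : dl x c = f * a' := by rw [hfdef, dl]; group
  have hdA : dl x c ∈ A := by rw [hd]; exact mul_mem hf.1 ha'
  have hdd : dl x c * dl x c = e := by
    rw [hd, (show Commute a' f from h.su.comm a' ha' f hf.1).mul_mul_mul_comm, hf.2.1, one_mul, hroot]
  have hinv : x * dl x c * x⁻¹ = (dl x c)⁻¹ := by
    calc x * dl x c * x⁻¹ = x * x * c * (x * x)⁻¹ * (x * c⁻¹ * x⁻¹) := by simp only [dl]; group
      _ = (dl x c)⁻¹ := by rw [hcom]; simp only [dl]; group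
  have h1 : dl x (dl x c) = e := by
    rw [show dl x (dl x c) = x * dl x c * x⁻¹ * (dl x c)⁻¹ from rfl, hinv, ← mul_inv_rev, hdd]
    exact inv_eq_of_mul_eq_one_right heE.2.1
  have h2 := h.co_dl hx hdA
  rw [h1, hdd, he, h.co_dl hx hc2, e4] at h2
  exact h2.symm

/-- a good matrix with a lift in `Sig` forces a commutative centralizer -/
theorem comm_of_sig [Finite P] {M : Mt} (hM : Sig A a b M) (hg : good M) (h0 : M ≠ 0) :
    ∀ c ∈ centralizer (A : Set P), ∀ d ∈ centralizer (A : Set P), c * d = d * c := by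
  obtain ⟨x, hx, rfl, e, he, hxe⟩ := hM
  refine h.su.comm_of_small ?_ fun c hc d hd hc8 hd8 hc4 hd4 => ?_
  · rw [h.card]
    have h2 : Function.Injective (fun v : V × V =>
        (⟨a ^ v.1.1.val * b ^ v.1.2.val * iota a b v.2, mul_mem (mul_mem (pow_mem h.ha _) (pow_mem h.hb _))
          (h.iota_mem v.2).1⟩ : A)) := by
      intro v v' ee
      have e1 := congrArg Subtype.val ee
      simp only at e1
      have hsq : ∀ w : V × V, (a ^ w.1.1.val * b ^ w.1.2.val * iota a b w.2) *
          (a ^ w.1.1.val * b ^ w.1.2.val * iota a b w.2) = iota a b w.1 := by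
        intro w
        have cc : Commute (iota a b w.2) (a ^ w.1.1.val * b ^ w.1.2.val) :=
          (h.iota_mem w.2).2.2 _ (mul_mem (pow_mem h.ha _) (pow_mem h.hb _))
        rw [cc.mul_mul_mul_comm, (h.iota_mem w.2).2.1, mul_one,
          (Commute.pow_pow (show Commute b a from h.su.comm b h.hb a h.ha) w.1.2.val w.1.1.val).mul_mul_mul_comm,
          ← (Commute.refl a).mul_pow, ← (Commute.refl b).mul_pow]
        rfl
      have e2 : v.1 = v'.1 := h.iota_inj (by rw [← hsq v, ← hsq v', e1])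
      rw [e2] at e1
      exact Prod.ext e2 (h.iota_inj (mul_left_cancel e1))
    refine le_trans ?_ (Nat.card_le_card_of_injective _ h2)
    rw [Nat.card_eq_fintype_card]
    rfl
  · by_contra hne
    have key : ∀ u ∈ centralizer (A : Set P), u ^ 8 = 1 → x * x * u = u * (x * x) := by
      intro u hu hu8
      have hu2 : u * u ∈ A := h.su.mem_of_four (mul_mem hu hu) (by rw [← pow_two, ← pow_mul]; exact hu8)
      have hf := h.su.fibre (h.su.C_normal.conj_mem u hu e) hu (by
        rw [show e * u * e⁻¹ * (e * u * e⁻¹) = e * (u * u) * e⁻¹ by group, h.su.CA he hu2, mul_inv_cancel_right])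
      rw [hxe]
      refine mul_inv_eq_iff_eq_mul.1 ?_
      calc e * e * u * (e * e)⁻¹ = e * (e * u * e⁻¹ * u⁻¹) * e⁻¹ * (e * u * e⁻¹) := by group
        _ = (e * u * e⁻¹ * u⁻¹) * (e * u * e⁻¹) := by rw [h.su.CA he hf.1, mul_inv_cancel_right]
        _ = (e * u * e⁻¹ * u⁻¹) * (e * u * e⁻¹ * u⁻¹) * u := by group
        _ = u := by rw [hf.2.1, one_mul]
    have m : ∀ u ∈ centralizer (A : Set P), u ^ 8 = 1 → u ^ 4 ∈ E1 A := fun u hu hu8 =>
      h.su.mem_E1_of_sq (pow_mem hu 4) (by rw [← pow_add]; exact hu8)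
    refine h0 (idem_good _ hg (co a b (c ^ 4)) (co a b (d ^ 4)) (fun h' => hc4 (h.co_eq_zero (m c hc hc8) h'))
      (fun h' => hd4 (h.co_eq_zero (m d hd hd8) h')) (fun h' => hne ?_)
      (h.relation hx hc hc8 (key c hc hc8)) (h.relation hx hd hd8 (key d hd hd8)))
    rw [← h.iota_co (m c hc hc8), h', h.iota_co (m d hd hd8)]

/-- a good matrix in `Sig` lifts to an involution -/
theorem involution [Finite P] (hC : ∀ c ∈ centralizer (A : Set P), ∀ d ∈ centralizer (A : Set P), c * d = d * c)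
    {M : Mt} (hM : Sig A a b M) (hg : good M) :
    ∃ x ∈ centralizer (E1 A : Set P), phi a b x = M ∧ x * x = 1 := by
  classical
  obtain ⟨x, hx, rfl, e, he, hxe⟩ := hM
  set C := centralizer (A : Set P) with hCdef
  have hn := h.su.C_normal
  let sq : ↥C →* ↥C := MonoidHom.mk' (fun c => c * c) fun c d => by
    apply Subtype.ext
    show (c : P) * d * (c * d) = c * c * (d * d)
    exact Commute.mul_mul_mul_comm (hC d d.2 c c.2) _ _
  let ps : ↥C →* ↥C := MonoidHom.mk' (fun c => ⟨x * c * x⁻¹ * c, mul_mem (hn.conj_mem c c.2 x) c.2⟩) fun c d => by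
    apply Subtype.ext
    show x * (c * d) * x⁻¹ * (c * d) = x * c * x⁻¹ * c * (x * d * x⁻¹ * d)
    rw [show x * ((c : P) * d) * x⁻¹ = x * c * x⁻¹ * (x * d * x⁻¹) by group]
    exact Commute.mul_mul_mul_comm (hC _ (hn.conj_mem d d.2 x) c c.2) _ _
  have hker : ps.ker ≤ sq.ker := fun c hc => by
    have h1 : x * c * x⁻¹ * c = (1 : P) := congrArg Subtype.val (MonoidHom.mem_ker.1 hc)
    exact MonoidHom.mem_ker.2 (Subtype.ext (h.inverted hx hg c.2 (mul_eq_one_iff_eq_inv.1 h1)).2.1)
  have hran : ps.range ≤ sq.range := by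
    rintro _ ⟨c, rfl⟩
    have hd : dl x c ∈ E1 A := by
      refine h.inverted hx hg (mul_mem (hn.conj_mem c c.2 x) (inv_mem c.2)) ?_
      have hcom : x * x * (c : P) = c * (x * x) := hC _ (by rw [hxe]; exact mul_mem he he) c c.2
      have hconj : Commute (x * (c : P)⁻¹ * x⁻¹) (c : P) := hC _ (hn.conj_mem _ (inv_mem c.2) x) c c.2
      calc x * (x * c * x⁻¹ * (c : P)⁻¹) * x⁻¹ = x * x * c * (x * x)⁻¹ * (x * (c : P)⁻¹ * x⁻¹) := by group
        _ = (c : P) * (x * (c : P)⁻¹ * x⁻¹) := by rw [hcom, mul_inv_cancel_right]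
        _ = (x * c * x⁻¹ * (c : P)⁻¹)⁻¹ := by group
    obtain ⟨a', ha', hroot⟩ := h.exists_root hd
    refine ⟨⟨a', h.su.A_le ha'⟩ * c, Subtype.ext ?_⟩
    show a' * c * (a' * c) = x * c * x⁻¹ * c
    rw [Commute.mul_mul_mul_comm (h.su.CA c.2 ha' : Commute (c : P) a') a' c, hroot, dl]
    group
  have heq : ps.range = sq.range := by
    refine eq_of_le_of_card_ge hran ?_
    have h1 := ps.ker.card_mul_index
    have h2 := sq.ker.card_mul_index
    rw [index_ker] at h1 h2
    have h3 := card_le_of_le hker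
    by_contra hlt
    push Not at hlt
    have : Nat.card ps.ker * Nat.card ps.range < Nat.card sq.ker * Nat.card sq.range :=
      Nat.mul_lt_mul_of_le_of_lt h3 hlt Nat.card_pos
    omega
  obtain ⟨c, hc⟩ : (⟨(e * e)⁻¹, inv_mem (mul_mem he he)⟩ : ↥C) ∈ ps.range := by
    rw [heq]
    exact ⟨⟨e⁻¹, inv_mem he⟩, Subtype.ext (by show e⁻¹ * e⁻¹ = (e * e)⁻¹; group)⟩
  have hc' : x * c * x⁻¹ * c = (e * e)⁻¹ := congrArg Subtype.val hc
  refine ⟨x * c, mul_mem hx (h.C_le_P1 c.2), ?_, ?_⟩
  · rw [h.phi_mul hx (h.C_le_P1 c.2), h.phi_of_C c.2, add_zero]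
  · have hxxC : x * x ∈ C := by rw [hxe]; exact mul_mem he he
    calc x * c * (x * c) = x * c * x⁻¹ * (x * x * c) := by group
      _ = x * c * x⁻¹ * c * (x * x) := by rw [hC _ hxxC c c.2, ← mul_assoc]
      _ = 1 := by rw [hc', hxe, inv_mul_cancel]

theorem sig_conj [Finite P] {g : P} (hg : g ∉ centralizer (E1 A : Set P)) {M : Mt} (hM : Sig A a b M) :
    Sig A a b (conjM M) := by
  obtain ⟨x, hx, rfl, e, he, hxe⟩ := hM
  haveI := E1_normal h.su.normal h.su.comm
  refine ⟨g * x * g⁻¹, (inferInstance : (centralizer (E1 A : Set P)).Normal).conj_mem x hx g,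
    h.phi_conj_out hg hx, g * e * g⁻¹, h.su.C_normal.conj_mem e he g, ?_⟩
  rw [show g * x * g⁻¹ * (g * x * g⁻¹) = g * (x * x) * g⁻¹ by group, hxe]
  group

theorem sig_add [Finite P] (hC : ∀ c ∈ centralizer (A : Set P), ∀ d ∈ centralizer (A : Set P), c * d = d * c)
    {M N : Mt} (hg : good M) (hM : Sig A a b M) (hN : Sig A a b N) : Sig A a b (M + N) := by
  obtain ⟨x, hx, rfl, hx2⟩ := h.involution hC hM hg
  obtain ⟨y, hy, rfl, e, he, hye⟩ := hN
  have hxi : x⁻¹ = x := inv_eq_of_mul_eq_one_right hx2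
  have hc : x * y * x⁻¹ * y⁻¹ ∈ centralizer (A : Set P) := h.C_of_phi
    (mul_mem (mul_mem (mul_mem hx hy) (inv_mem hx)) (inv_mem hy)) (by
      rw [h.phi_mul (mul_mem (mul_mem hx hy) (inv_mem hx)) (inv_mem hy), h.phi_conj_in hx hy, h.phi_inv hy,
        add_self_Mt])
  have hcE := h.inverted hx hg hc (by
    calc x * (x * y * x⁻¹ * y⁻¹) * x⁻¹ = x * x * y * x⁻¹ * y⁻¹ * x⁻¹ := by group
      _ = y * x * y⁻¹ * x⁻¹ := by rw [hx2, one_mul, hxi]
      _ = (x * y * x⁻¹ * y⁻¹)⁻¹ := by group)
  obtain ⟨a', ha', hroot⟩ := h.exists_root hcE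
  refine ⟨x * y, mul_mem hx hy, h.phi_mul hx hy, a' * e, mul_mem (h.su.A_le ha') he, ?_⟩
  rw [(show Commute e a' from h.su.CA he ha').mul_mul_mul_comm, hroot, ← hye, hxi]
  group

end

end Co

end Cfsg.Agent.MacWilliams
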